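import Mathlib

/-!
Gradings defined by a pair of mutually inverse square-zero elements.
-/

set_option autoImplicit false
set_option linter.unusedSimpArgs false
set_option linter.unnecessarySeqFocus false

namespace Cfsg.Lib.Flav

variable {k : Type*} [Field k] {E : Type*} [Ring E] [Algebra k E]

/-- an inverse pair -/
structure IP (x y : E) : Prop where
  xx : x * x = 0
  yy : y * y = 0
  xyx : x * y * x = x
  yxy : y * x * y = y

/-- degree one -/
structure D1 (x y m : E) : Prop where
  xm : x * m = 0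
  mx : m * x = 0
  eq : x * y * m + m * y * x = m

/-- degree two -/
def D2 (x y c : E) : Prop := x * y * c * y * x = c

variable {x y m m' c c' : E}

theorem IP.symm (h : IP x y) : IP y x := ⟨h.yy, h.xx, h.yxy, h.xyx⟩

theorem IP.xx' (h : IP x y) (a : E) : x * (x * a) = 0 := by rw [← mul_assoc, h.xx, zero_mul]
theorem IP.yy' (h : IP x y) (a : E) : y * (y * a) = 0 := by rw [← mul_assoc, h.yy, zero_mul]
theorem IP.xyx1 (h : IP x y) : x * (y * x) = x := by rw [← mul_assoc, h.xyx]
theorem IP.yxy1 (h : IP x y) : y * (x * y) = y := by rw [← mul_assoc, h.yxy]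
theorem IP.xyx' (h : IP x y) (a : E) : x * (y * (x * a)) = x * a := by
  rw [← mul_assoc, ← mul_assoc, h.xyx]
theorem IP.yxy' (h : IP x y) (a : E) : y * (x * (y * a)) = y * a := by
  rw [← mul_assoc, ← mul_assoc, h.yxy]

theorem D1.xm' (h : D1 x y m) (a : E) : x * (m * a) = 0 := by rw [← mul_assoc, h.xm, zero_mul]
theorem D1.mx' (h : D1 x y m) (a : E) : m * (x * a) = 0 := by rw [← mul_assoc, h.mx, zero_mul]

theorem D1.ymy (hp : IP x y) (h : D1 x y m) : y * m * y = 0 := by
  have h1 : y * (x * y * m + m * y * x) * y = y * m * y := by rw [h.eq]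
  simp only [mul_add, add_mul, mul_assoc, hp.yxy', hp.yxy1] at h1
  rw [mul_assoc]
  exact add_eq_left.1 h1

theorem D1.ymy1 (hp : IP x y) (h : D1 x y m) : y * (m * y) = 0 := by
  rw [← mul_assoc, h.ymy hp]

theorem D1.ymy' (hp : IP x y) (h : D1 x y m) (a : E) : y * (m * (y * a)) = 0 := by
  rw [← mul_assoc, ← mul_assoc, h.ymy hp, zero_mul]

theorem D1.zero : D1 x y 0 := ⟨by simp, by simp, by simp⟩

theorem D1.add (h : D1 x y m) (h' : D1 x y m') : D1 x y (m + m') :=
  ⟨by rw [mul_add, h.xm, h'.xm, add_zero], by rw [add_mul, h.mx, h'.mx, add_zero], by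
    conv_rhs => rw [← h.eq, ← h'.eq]
    noncomm_ring⟩

theorem D1.smul (h : D1 x y m) (a : k) : D1 x y (a • m) :=
  ⟨by rw [mul_smul_comm, h.xm, smul_zero], by rw [smul_mul_assoc, h.mx, smul_zero], by
    rw [mul_smul_comm, smul_mul_assoc, smul_mul_assoc, ← smul_add, h.eq]⟩

theorem D1.neg (h : D1 x y m) : D1 x y (-m) :=
  ⟨by rw [mul_neg, h.xm, neg_zero], by rw [neg_mul, h.mx, neg_zero], by
    rw [mul_neg, neg_mul, neg_mul, ← neg_add, h.eq]⟩

theorem D2.zero : D2 x y 0 := by simp [D2]

theorem D2.add (h : D2 x y c) (h' : D2 x y c') : D2 x y (c + c') := by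
  unfold D2 at *
  rw [mul_add, add_mul, add_mul, h, h']

theorem D2.smul (h : D2 x y c) (a : k) : D2 x y (a • c) := by
  unfold D2 at *
  rw [mul_smul_comm, smul_mul_assoc, smul_mul_assoc, h]

theorem D2.neg (h : D2 x y c) : D2 x y (-c) := by
  unfold D2 at *
  rw [mul_neg, neg_mul, neg_mul, h]

theorem D2.sub (h : D2 x y c) (h' : D2 x y c') : D2 x y (c - c') := by
  rw [sub_eq_add_neg]; exact h.add h'.neg

theorem D2.of_mul (hp : IP x y) (a : E) : D2 x y (x * a * x) := by
  simp only [D2, mul_assoc, hp.xyx', hp.xyx1]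

theorem D1.mul (h : D1 x y m) (h' : D1 x y m') : D2 x y (m * m') := by
  have e : m * m' = (x * y * m + m * y * x) * (x * y * m' + m' * y * x) := by rw [h.eq, h'.eq]
  have hxx : m * (y * (x * (x * (y * m')))) = 0 := by
    have h1 : x * (x * y * m' + m' * y * x) = 0 := by rw [h'.eq, h'.xm]
    simp only [mul_add, mul_assoc, h'.xm', add_zero] at h1
    rw [h1, mul_zero, mul_zero]
  unfold D2
  conv_rhs => rw [e]
  simp only [mul_add, add_mul, mul_assoc, h.mx', h'.xm', mul_zero, add_zero, zero_add, hxx]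

theorem D2.mul_of (h : D2 x y c) {a : E} (ha : x * a = 0) : c * a = 0 := by
  rw [← h, mul_assoc, ha, mul_zero]

theorem D2.of_mul_eq (h : D2 x y c) {a : E} (ha : a * x = 0) : a * c = 0 := by
  rw [← h]; simp only [← mul_assoc, ha, zero_mul]

theorem D2.xc (hp : IP x y) (h : D2 x y c) : x * c = 0 := h.of_mul_eq hp.xx
theorem D2.cx (hp : IP x y) (h : D2 x y c) : c * x = 0 := h.mul_of hp.xx

theorem mul3 (hp : IP x y) (h : D1 x y m) (h' : D1 x y m') (hc : D2 x y c) (hc' : D2 x y c') :
    (1 + m + c) * (1 + m' + c') = 1 + (m + m') + (c + c' + m * m') := by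
  simp only [mul_add, add_mul, mul_one, one_mul, hc.mul_of h'.xm, hc'.of_mul_eq h.mx,
    hc.mul_of (hc'.xc hp)]
  abel

/-- the truncated exponential -/
def ex (k : Type*) [Field k] {E : Type*} [Ring E] [Algebra k E] (m : E) : E :=
  1 + m + (2⁻¹ : k) • (m * m)

theorem D1.half (h : D1 x y m) : D2 x y ((2⁻¹ : k) • (m * m)) := (h.mul h).smul _

theorem ex_mul_ex (h2 : (2 : k) ≠ 0) (hp : IP x y) (h : D1 x y m) (a b : k) :
    ex k (a • m) * ex k (b • m) = ex k ((a + b) • m) := by
  unfold ex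
  rw [mul3 hp (h.smul a) (h.smul b) (h.smul a).half (h.smul b).half]
  simp only [smul_mul_assoc, mul_smul_comm]
  match_scalars <;> field_simp <;> ring

theorem ex_zero : ex k (0 : E) = 1 := by simp [ex]

theorem ex_mul_ex_neg (h2 : (2 : k) ≠ 0) (hp : IP x y) (h : D1 x y m) :
    ex k m * ex k (-m) = 1 := by
  have := ex_mul_ex h2 hp h 1 (-1)
  rwa [one_smul, neg_one_smul, add_neg_cancel, zero_smul, ex_zero] at this

theorem ex_neg_mul_ex (h2 : (2 : k) ≠ 0) (hp : IP x y) (h : D1 x y m) :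
    ex k (-m) * ex k m = 1 := by
  have := ex_mul_ex_neg h2 hp h.neg
  rwa [neg_neg] at this

theorem ex_pow (h2 : (2 : k) ≠ 0) (hp : IP x y) (h : D1 x y m) (n : ℕ) :
    ex k m ^ n = ex k ((n : k) • m) := by
  induction n with
  | zero => simp [ex_zero]
  | succ n ih =>
    rw [pow_succ, ih, Nat.cast_succ, ← ex_mul_ex h2 hp h, one_smul]

theorem ex_mul_add (hp : IP x y) (h : D1 x y m) (hc : D2 x y c) :
    ex k m * (1 + c) = ex k m + c := by
  have := mul3 hp h D1.zero (h.half (k := k)) hc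
  simp only [add_zero, mul_zero] at this
  rw [ex, this, ← add_assoc]

theorem ex_add (h2 : (2 : k) ≠ 0) (hp : IP x y) (h : D1 x y m) (h' : D1 x y m') :
    ex k m * ex k m' * (1 + (-2⁻¹ : k) • (m * m' - m' * m)) = ex k (m + m') := by
  have hc := ((h.mul h').sub (h'.mul h)).smul (-2⁻¹ : k)
  unfold ex
  rw [mul3 hp h h' h.half h'.half]
  have := mul3 hp (h.add h') D1.zero
    (((h.half (k := k)).add (h'.half (k := k))).add (h.mul h')) hc
  simp only [add_zero, mul_zero] at this
  rw [this]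
  simp only [mul_add, add_mul]
  match_scalars <;> field_simp <;> ring

theorem ex_comm (h2 : (2 : k) ≠ 0) (hp : IP x y) (h : D1 x y m) (h' : D1 x y m') :
    ex k m * ex k m' * ex k (-m) * ex k (-m') = 1 + (m * m' - m' * m) := by
  unfold ex
  rw [mul3 hp h h' h.half h'.half, mul3 hp (h.add h') h.neg
    ((h.half (k := k)).add h'.half |>.add (h.mul h')) h.neg.half,
    mul3 hp ((h.add h').add h.neg) h'.neg ((((h.half (k := k)).add h'.half |>.add (h.mul h')).add
      h.neg.half).add ((h.add h').mul h.neg)) h'.neg.half]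
  simp only [add_mul, mul_neg, neg_mul, neg_neg]
  match_scalars <;> field_simp <;> ring

/-- the torus -/
def hh (x y : E) (t s : k) : E := 1 + (t - 1) • (x * y) + (s - 1) • (y * x)

theorem hh_mul (hp : IP x y) (t s t' s' : k) :
    hh x y t s * hh x y t' s' = hh x y (t * t') (s * s') := by
  simp only [hh, mul_add, add_mul, mul_one, one_mul, smul_mul_assoc, mul_smul_comm, mul_assoc,
    hp.xyx', hp.yxy', hp.xx', hp.yy', mul_zero, smul_zero]
  module

theorem hh_one : hh x y (1 : k) 1 = 1 := by simp [hh]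

theorem hh_mul_inv (hp : IP x y) {t s : k} (h : t * s = 1) : hh x y t s * hh x y s t = 1 := by
  rw [hh_mul hp, h, mul_comm, h, hh_one]

theorem hh_symm (t s : k) : hh x y t s = hh y x s t := by
  simp only [hh]; abel

theorem hh_conj_D1 (hp : IP x y) (h : D1 x y m) (t s : k) :
    hh x y t s * m * hh x y s t = t • m := by
  have e := h.eq
  simp only [mul_assoc] at e
  simp only [hh, mul_add, add_mul, mul_one, one_mul, smul_mul_assoc, mul_smul_comm, mul_assoc,
    h.xm', h.mx', h.xm, h.ymy' hp, mul_zero, smul_zero, add_zero]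
  linear_combination (norm := module) (t - 1) • e

theorem hh_conj_D2 (hp : IP x y) (h : D2 x y c) (t s : k) :
    hh x y t s * c * hh x y s t = (t * t) • c := by
  rw [← h]
  simp only [hh, mul_add, add_mul, mul_one, one_mul, smul_mul_assoc, mul_smul_comm, mul_assoc,
    hp.xyx', hp.xx', hp.xyx1, mul_zero, smul_zero, add_zero]
  module

theorem hh_eq (hp : IP x y) {t s : k} (h : t * s = 1) :
    (1 + t • x) * (1 + (-s) • y) * (1 + t • x) *
      ((1 + (-1 : k) • x) * (1 + (1 : k) • y) * (1 + (-1 : k) • x)) = hh x y t s := by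
  have ht : t ≠ 0 := left_ne_zero_of_mul_eq_one h
  obtain rfl : s = t⁻¹ := eq_inv_of_mul_eq_one_right h
  simp only [hh, mul_add, add_mul, mul_one, one_mul, smul_mul_assoc, mul_smul_comm, mul_assoc,
    hp.xyx', hp.yxy', hp.xx', hp.yy', hp.xyx1, hp.yxy1, hp.xx, hp.yy, mul_zero, smul_zero, smul_add,
    zero_mul]
  match_scalars <;> field_simp <;> ring

theorem hh_conj_ex (hp : IP x y) (h : D1 x y m) (hc : D2 x y c) {t s : k} (hts : t * s = 1) :
    hh x y t s * (ex k m + c) * hh x y s t = ex k (t • m) + (t * t) • c := by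
  simp only [ex, mul_add, add_mul, mul_one, hh_mul_inv hp hts, hh_conj_D1 hp h,
    hh_conj_D2 hp hc, hh_conj_D2 hp h.half, smul_mul_assoc, mul_smul_comm]
  have := hh_conj_D2 hp (h.mul h) t s
  rw [this]
  module

/-- the intertwiner of two inverse pairs with the same first member -/
theorem exists_inter (hp : IP x y) {y' : E} (hp' : IP x y') :
    ∃ m c, D1 x y m ∧ D2 x y c ∧ (ex k m + c) * y = y' * (ex k m + c) := by
  set a : E := (x * y + y' * x + (1 - x * y' - y' * x) * (1 - x * y - y * x)) - 1 with ha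
  have hxa : x * a = 0 := by
    simp only [ha, mul_add, add_mul, mul_sub, sub_mul, mul_one, one_mul, mul_assoc, hp.xx', hp.xyx1,
      hp'.xyx1, hp'.xyx', mul_zero]
    abel
  have hax : a * x = 0 := by
    simp only [ha, mul_add, add_mul, mul_sub, sub_mul, mul_one, one_mul, mul_assoc, hp.xx', hp.xyx1,
      hp'.xyx1, hp'.xyx', hp.xx, mul_zero, zero_mul]
    abel
  have h0 : x * y * a + a * y * x - x * y * a * y * x = a := by
    simp only [ha, mul_add, add_mul, mul_sub, sub_mul, mul_one, one_mul, mul_assoc, hp.xx', hp.xyx1,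
      hp'.xyx1, hp'.xyx', hp.xx, mul_zero, zero_mul, hp.xyx', hp.yxy', hp.yy']
    abel
  have hc0 : D2 x y (x * y * a * y * x) := by
    have := D2.of_mul hp (y * a * y)
    simpa only [mul_assoc] using this
  have hm : D1 x y (a - x * y * a * y * x) := ⟨by rw [mul_sub, hxa, hc0.xc hp, sub_zero],
    by rw [sub_mul, hax, hc0.cx hp, sub_zero], by
      conv_rhs => rw [← h0]
      simp only [mul_add, add_mul, mul_sub, sub_mul, mul_assoc, hp.xyx', hp.yxy', hp.xyx1]
      have e1 : x * (y * (a * (y * x))) = x * (y * ((x * y * a + a * y * x -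
        x * y * a * y * x) * (y * x))) := by rw [h0]
      simp only [mul_add, add_mul, mul_sub, sub_mul, mul_assoc, hp.xyx', hp.yxy', hp.xyx1] at e1
      abel⟩
  refine ⟨_, x * y * a * y * x - (2⁻¹ : k) • ((a - x * y * a * y * x) * (a - x * y * a * y * x)),
    hm, hc0.sub hm.half, ?_⟩
  have e : ex k (a - x * y * a * y * x) + (x * y * a * y * x - (2⁻¹ : k) •
      ((a - x * y * a * y * x) * (a - x * y * a * y * x))) = 1 + a := by
    unfold ex; abel
  rw [e]
  simp only [ha, mul_add, add_mul, mul_sub, sub_mul, mul_one, one_mul, mul_assoc, hp.xx', hp.xyx1,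
    hp'.xyx1, hp'.xyx', hp.xx, mul_zero, hp.xyx', hp.yxy', hp.yy', hp.yy, hp.yxy1, hp'.yy',
    hp'.yxy', hp'.yxy1, zero_mul]
  abel

end Cfsg.Lib.Flav
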