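import Mathlib
import Cfsg.Agent.Flav.Ring
import Cfsg.Agent.Class.QuadFinal
import Cfsg.Agent.Solv.CoprimeBasic

/-!
Root elements of a quadratic pair over a prime field with more than three elements: the unipotent
radical of the normalizer of a root group is transitive on the opposite root groups.
-/

set_option autoImplicit false
set_option linter.unusedSimpArgs false
set_option linter.unnecessarySeqFocus false
set_option linter.unusedSectionVars false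

namespace Cfsg.Lib.Flav

open Cfsg.Lib.Class Pointwise

variable {p : ℕ} [hp : Fact p.Prime] [h3 : Fact (3 < p)]

theorem k2 : ringChar (ZMod p) ≠ 2 := by rw [ZMod.ringChar_zmod_n]; have := h3.out; omega

theorem k3 : Nat.card (ZMod p) ≠ 3 := by rw [Nat.card_zmod]; have := h3.out; omega

theorem cast_ne {n : ℕ} (h0 : 0 < n) (h : n ≤ 4) : (n : ZMod p) ≠ 0 := by
  rw [Ne, ZMod.natCast_eq_zero_iff]
  intro hd
  have := Nat.le_of_dvd h0 hd
  have h4 : p ≠ 4 := fun e => by have := hp.out; rw [e] at this; norm_num at this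
  have := h3.out
  omega

theorem two_ne : (2 : ZMod p) ≠ 0 := by exact_mod_cast cast_ne (p := p) (n := 2) (by norm_num) (by norm_num)
theorem three_ne : (3 : ZMod p) ≠ 0 := by exact_mod_cast cast_ne (p := p) (n := 3) (by norm_num) (by norm_num)
theorem four_ne : (4 : ZMod p) ≠ 0 := by exact_mod_cast cast_ne (p := p) (n := 4) (by norm_num) (by norm_num)

variable {V : Type*} [AddCommGroup V] [Module (ZMod p) V]

local notation "𝔸" => Module.End (ZMod p) V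
local notation "𝔾" => LinearMap.GeneralLinearGroup (ZMod p) V

/-- conjugation by a unit -/
def cj (g : 𝔾) : 𝔸 →ₐ[ZMod p] 𝔸 where
  toFun a := (g : 𝔸) * a * ((g⁻¹ : 𝔾) : 𝔸)
  map_one' := by simp
  map_mul' a b := by simp [mul_assoc]
  map_zero' := by simp
  map_add' a b := by simp [mul_add, add_mul]
  commutes' c := by simp [Algebra.algebraMap_eq_smul_one]

theorem cj_apply (g : 𝔾) (a : 𝔸) : cj g a = (g : 𝔸) * a * ((g⁻¹ : 𝔾) : 𝔸) := rfl

theorem cj_mul (g h : 𝔾) (a : 𝔸) : cj (g * h) a = cj g (cj h a) := by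
  simp [cj_apply, mul_assoc]

@[simp] theorem cj_one (a : 𝔸) : cj (1 : 𝔾) a = a := by simp [cj_apply]

@[simp] theorem cj_inv_cj (g : 𝔾) (a : 𝔸) : cj g⁻¹ (cj g a) = a := by
  rw [← cj_mul, inv_mul_cancel, cj_one]

@[simp] theorem cj_cj_inv (g : 𝔾) (a : 𝔸) : cj g (cj g⁻¹ a) = a := by
  rw [← cj_mul, mul_inv_cancel, cj_one]

theorem cj_eq_zero {g : 𝔾} {a : 𝔸} : cj g a = 0 ↔ a = 0 :=
  ⟨fun h => by rw [← cj_inv_cj g a, h, map_zero], fun h => by rw [h, map_zero]⟩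

theorem cj_val (g h : 𝔾) : cj g (h : 𝔸) = ((g * h * g⁻¹ : 𝔾) : 𝔸) := by simp [cj_apply]

theorem cj_eq_self_iff {g : 𝔾} {a : 𝔸} : cj g a = a ↔ (g : 𝔸) * a = a * g := by
  rw [cj_apply, Units.mul_inv_eq_iff_eq_mul]

theorem cj_of_val {g : 𝔾} {a b : 𝔸} (hg : (g : 𝔸) = a) (hab : a * b = 1) (t : 𝔸) :
    cj g t = a * t * b := by
  rw [cj_apply, Units.inv_eq_of_mul_eq_one_right (u := g) (a := b) (by rw [hg, hab]), hg]

theorem IP.cj {x y : 𝔸} (h : IP x y) (g : 𝔾) : IP (cj g x) (cj g y) :=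
  ⟨by rw [← map_mul, h.xx, map_zero], by rw [← map_mul, h.yy, map_zero],
    by rw [← map_mul, ← map_mul, h.xyx], by rw [← map_mul, ← map_mul, h.yxy]⟩

/-- `a` is the underlying endomorphism of a member of `G` -/
def In (G : Subgroup 𝔾) (a : 𝔸) : Prop := ∃ g ∈ G, (g : 𝔸) = a

variable {G : Subgroup (LinearMap.GeneralLinearGroup (ZMod p) V)}

theorem In.one : In G 1 := ⟨1, G.one_mem, rfl⟩

theorem In.mul {a b : 𝔸} (ha : In G a) (hb : In G b) : In G (a * b) := by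
  obtain ⟨g, hg, rfl⟩ := ha
  obtain ⟨h, hh, rfl⟩ := hb
  exact ⟨g * h, G.mul_mem hg hh, rfl⟩

theorem In.pow {a : 𝔸} (ha : In G a) (n : ℕ) : In G (a ^ n) := by
  obtain ⟨g, hg, rfl⟩ := ha
  exact ⟨g ^ n, G.pow_mem hg n, Units.val_pow_eq_pow_val g n⟩

theorem In.inv {a b : 𝔸} (ha : In G a) (h : a * b = 1) : In G b := by
  obtain ⟨g, hg, rfl⟩ := ha
  exact ⟨g⁻¹, G.inv_mem hg, Units.inv_eq_of_mul_eq_one_right h⟩

theorem In.mono {H : Subgroup 𝔾} (h : G ≤ H) {a : 𝔸} (ha : In G a) : In H a := by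
  obtain ⟨g, hg, rfl⟩ := ha
  exact ⟨g, h hg, rfl⟩

theorem In.cjN {g : 𝔾} (hg : g ∈ Subgroup.normalizer (G : Set 𝔾)) {a : 𝔸} (ha : In G a) :
    In G (cj g a) := by
  obtain ⟨h, hh, rfl⟩ := ha
  exact ⟨g * h * g⁻¹, (Subgroup.mem_normalizer_iff.1 hg h).1 hh, (cj_val g h).symm⟩

theorem in_of_QS {s : 𝔸} (hs : s ∈ QS G) (c : ZMod p) : In G (1 + c • s) := hs.2 c

theorem in_of_QS' {s : 𝔸} (hs : s ∈ QS G) : In G (1 + s) := by simpa using in_of_QS hs 1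

theorem one_add_pow {s : 𝔸} (hs : s * s = 0) (n : ℕ) : (1 + s) ^ n = 1 + (n : ZMod p) • s := by
  induction n with
  | zero => simp
  | succ n ih =>
    rw [pow_succ, ih]
    simp only [mul_add, add_mul, mul_one, one_mul, smul_mul_assoc, hs, smul_zero, Nat.cast_succ]
    module

theorem mem_QS_of_in {s : 𝔸} (hs : s * s = 0) (h : In G (1 + s)) : s ∈ QS G :=
  ⟨hs, fun c => by
    have := h.pow c.val
    rwa [one_add_pow hs, ZMod.natCast_zmod_val] at this⟩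

theorem mem_QS_of_in_smul {s : 𝔸} (hs : s * s = 0) {c : ZMod p} (hc : c ≠ 0)
    (h : In G (1 + c • s)) : s ∈ QS G := by
  have := QS.smul (mem_QS_of_in (by rw [smul_mul_smul_comm, hs, smul_zero]) h) c⁻¹
  rwa [smul_smul, inv_mul_cancel₀ hc, one_smul] at this

theorem In.ex_smul {x y m : 𝔸} (hxy : IP x y) (hm : D1 x y m) (h : In G (ex (ZMod p) m))
    (c : ZMod p) : In G (ex (ZMod p) (c • m)) := by
  have := h.pow c.val
  rwa [ex_pow two_ne hxy hm, ZMod.natCast_zmod_val] at this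

theorem in_hh {x y : 𝔸} (hxy : IP x y) (hx : x ∈ QS G) (hy : y ∈ QS G) {t s : ZMod p}
    (h : t * s = 1) : In G (hh x y t s) := by
  rw [← hh_eq hxy h]
  exact (((in_of_QS hx _).mul (in_of_QS hy _)).mul (in_of_QS hx _)).mul
    (((in_of_QS hx _).mul (in_of_QS hy _)).mul (in_of_QS hx _))

theorem QS_cjN {g : 𝔾} (hg : g ∈ Subgroup.normalizer (G : Set 𝔾)) {s : 𝔸} (hs : s ∈ QS G) :
    cj g s ∈ QS G :=
  mem_QS_of_in (by rw [← map_mul, hs.1, map_zero]) (by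
    have := (in_of_QS' hs).cjN hg
    rwa [map_add, map_one] at this)

theorem Esp_cjN {g : 𝔾} (hg : g ∈ Subgroup.normalizer (G : Set 𝔾)) {t x : 𝔸} (ht : t * t = 0)
    (hx : x ∈ Esp G t) : cj g x ∈ Esp G (cj g t) := by
  obtain ⟨a, ha⟩ := Esp.exists_right hx
  obtain ⟨b, hb⟩ := Esp.exists_left hx
  refine mem_Esp_of (by rw [← map_mul, ht, map_zero]) (QS_cjN hg (Esp.qs hx)) ?_ ?_
  · rw [hb, map_mul]; exact ker_le_ker_mul _ _
  · rw [ha, map_mul]; exact range_mul_le _ _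

theorem conj_EG {g : 𝔾} (hg : g ∈ Subgroup.normalizer (G : Set 𝔾)) {t : 𝔸} (ht : t * t = 0) :
    MulAut.conj g • EG G t = EG G (cj g t) := by
  ext h
  rw [Solv.Coprime.mem_conj_smul, mem_EG, mem_EG]
  have e : ((g⁻¹ * h * g : 𝔾) : 𝔸) - 1 = cj g⁻¹ ((h : 𝔸) - 1) := by
    rw [map_sub, map_one, cj_val, inv_inv]
  rw [e]
  refine ⟨fun h1 => by simpa using Esp_cjN hg ht h1, fun h1 => ?_⟩
  simpa using Esp_cjN (Subgroup.inv_mem _ hg) (by rw [← map_mul, ht, map_zero]) h1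

theorem D2_of_mem_Esp {x y c : 𝔸} (hxy : IP x y) (hc : c ∈ Esp G x) : D2 x y c := by
  obtain ⟨a, ha⟩ := Esp.exists_right hc
  obtain ⟨b, hb⟩ := Esp.exists_left hc
  unfold D2
  have h1 : x * y * c = c := by rw [ha, ← mul_assoc, hxy.xyx]
  rw [h1]
  conv_lhs => rw [hb]
  rw [mul_assoc, mul_assoc, hxy.xyx1, ← hb]

theorem mem_Esp_of_D2 {x y c : 𝔸} (hxy : IP x y) (hc : D2 x y c) (h : c ∈ QS G) : c ∈ Esp G x :=
  mem_Esp_of hxy.xx h (by rw [← hc]; exact ker_le_ker_mul _ _)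
    (by rw [← hc, mul_assoc, mul_assoc, mul_assoc]; exact range_mul_le _ _)

theorem mem_coreSp {x a : 𝔸} : a ∈ coreSp x ↔ x * a = 0 ∧ a * x = 0 ∧
    ∀ m ∈ LinearMap.ker x, a m ∈ LinearMap.range x := by
  rw [mul_eq_zero_iff_range_le_ker, mul_eq_zero_iff_range_le_ker, ← and_assoc]
  rfl

theorem coreSp_cube {x a b c : 𝔸} (ha : a ∈ coreSp x) (hb : b ∈ coreSp x) (hc : c ∈ coreSp x) :
    a * b * c = 0 := by
  rw [mem_coreSp] at ha hb hc
  ext m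
  obtain ⟨n, hn⟩ := hb.2.2 (c m) (LinearMap.congr_fun hc.1 m)
  have := LinearMap.congr_fun ha.2.1 n
  simp only [Module.End.mul_apply, LinearMap.zero_apply] at this ⊢
  rw [← hn, this]

theorem coreSp_mul {x a b : 𝔸} (ha : a ∈ coreSp x) (hb : b ∈ coreSp x) : a * b ∈ coreSp x :=
  coreSp_mul_le x (Submodule.mul_mem_mul ha hb)

theorem D1.mem_coreSp {x y m : 𝔸} (hm : D1 x y m) : m ∈ coreSp x :=
  Flav.mem_coreSp.2 ⟨hm.xm, hm.mx, fun v hv => ⟨y (m v), by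
    have := LinearMap.congr_fun hm.eq v
    simp only [LinearMap.add_apply, Module.End.mul_apply, LinearMap.mem_ker.1 hv, map_zero,
      add_zero] at this
    exact this⟩⟩

theorem D2.mem_coreSp {x y c : 𝔸} (hxy : IP x y) (hc : D2 x y c) : c ∈ coreSp x :=
  Flav.mem_coreSp.2 ⟨hc.xc hxy, hc.cx hxy, fun v hv => ⟨0, by
    rw [← hc]
    simp only [Module.End.mul_apply, LinearMap.mem_ker.1 hv, map_zero]⟩⟩

theorem coreSp_cj (g : 𝔾) {x a : 𝔸} (ha : a ∈ coreSp x) : cj g a ∈ coreSp (cj g x) := by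
  rw [mem_coreSp] at ha ⊢
  refine ⟨by rw [← map_mul, ha.1, map_zero], by rw [← map_mul, ha.2.1, map_zero], fun m hm => ?_⟩
  have h1 : x (((g⁻¹ : 𝔾) : 𝔸) m) = 0 := by
    have := congrArg ((g⁻¹ : 𝔾) : 𝔸) (LinearMap.mem_ker.1 hm)
    simpa [cj_apply, ← Module.End.mul_apply, ← mul_assoc] using this
  obtain ⟨n, hn⟩ := ha.2.2 _ h1
  refine ⟨(g : 𝔸) n, ?_⟩
  simp only [cj_apply, Module.End.mul_apply, ← hn]
  rw [← Module.End.mul_apply ((g⁻¹ : 𝔾) : 𝔸), Units.inv_mul, Module.End.one_apply]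

/-- the unipotent radical of the normalizer of a root group -/
def MG (G : Subgroup 𝔾) (x : 𝔸) : Subgroup 𝔾 where
  carrier := {g | g ∈ G ∧ (g : 𝔸) - 1 ∈ coreSp x}
  one_mem' := ⟨G.one_mem, by simp⟩
  mul_mem' := by
    rintro a b ⟨ha, ha'⟩ ⟨hb, hb'⟩
    refine ⟨G.mul_mem ha hb, ?_⟩
    have : ((a * b : 𝔾) : 𝔸) - 1 = ((a : 𝔸) - 1) * ((b : 𝔸) - 1) + ((a : 𝔸) - 1) + ((b : 𝔸) - 1) := by
      rw [Units.val_mul]; noncomm_ring
    rw [this]
    exact add_mem (add_mem (coreSp_mul ha' hb') ha') hb'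
  inv_mem' := by
    rintro a ⟨ha, ha'⟩
    refine ⟨G.inv_mem ha, ?_⟩
    have h : (a : 𝔸) * (1 - ((a : 𝔸) - 1) + ((a : 𝔸) - 1) * ((a : 𝔸) - 1)) = 1 := by
      have := coreSp_cube ha' ha' ha'
      rw [← sub_eq_zero, ← this]
      noncomm_ring
    rw [Units.inv_eq_of_mul_eq_one_right h]
    have := add_mem (neg_mem ha') (coreSp_mul ha' ha')
    convert this using 1
    abel

theorem mem_MG {x : 𝔸} {g : 𝔾} : g ∈ MG G x ↔ g ∈ G ∧ (g : 𝔸) - 1 ∈ coreSp x := Iff.rfl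

theorem MG_le (x : 𝔸) : MG G x ≤ G := fun _ h => h.1

theorem pow_eq_one_of_nil {g : 𝔾} {n : ℕ} (h : ((g : 𝔸) - 1) ^ n = 0) : g ^ p ^ n = 1 := by
  apply Units.ext
  rcases subsingleton_or_nontrivial 𝔸 with h0 | h0
  · exact Subsingleton.elim _ _
  haveI : CharP 𝔸 p := charP_of_injective_algebraMap (algebraMap (ZMod p) 𝔸).injective p
  have h1 := sub_pow_char_pow_of_commute (p := p) (n := n) (Commute.one_right (g : 𝔸))
  rw [pow_eq_zero_of_le (Nat.lt_pow_self hp.out.one_lt).le h, one_pow] at h1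
  rw [Units.val_pow_eq_pow_val, Units.val_one]
  exact (sub_eq_zero.1 h1.symm)

theorem isPGroup_of_nil {H : Subgroup 𝔾} (h : ∀ g ∈ H, IsNilpotent ((g : 𝔸) - 1)) :
    IsPGroup p H := fun g => by
  obtain ⟨n, hn⟩ := h g g.2
  exact ⟨n, Subtype.ext (pow_eq_one_of_nil hn)⟩

theorem MG_isPGroup (x : 𝔸) : IsPGroup p (MG G x) :=
  isPGroup_of_nil fun g hg => ⟨3, by rw [pow_three']; exact coreSp_cube hg.2 hg.2 hg.2⟩

theorem EG_le_MG {x : 𝔸} (hx : x * x = 0) : EG G x ≤ MG G x := fun g hg => by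
  have h := mem_EG.1 hg
  obtain ⟨a, ha⟩ := Esp.exists_right h
  obtain ⟨b, hb⟩ := Esp.exists_left h
  refine ⟨EG_le x hg, mem_coreSp.2 ⟨by rw [ha, ← mul_assoc, hx, zero_mul],
    by rw [hb, mul_assoc, hx, mul_zero], fun m hm => ?_⟩⟩
  rw [Esp.ker_le h hm]
  exact zero_mem _

theorem cj_eq_of_mem_MG {x c : 𝔸} {g : 𝔾} (hg : g ∈ MG G x) (hc : c ∈ Esp G x) : cj g c = c := by
  obtain ⟨a, ha⟩ := Esp.exists_right hc
  obtain ⟨b, hb⟩ := Esp.exists_left hc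
  have h := mem_coreSp.1 hg.2
  have h1 : ((g : 𝔸) - 1) * c = 0 := by rw [ha, ← mul_assoc, h.2.1, zero_mul]
  have h2 : c * ((g : 𝔸) - 1) = 0 := by rw [hb, mul_assoc, h.1, mul_zero]
  rw [cj_eq_self_iff, ← sub_eq_zero, ← sub_eq_zero.2 (h1.trans h2.symm)]
  noncomm_ring

theorem conj_MG {g : 𝔾} (hg : g ∈ Subgroup.normalizer (G : Set 𝔾)) (t : 𝔸) :
    MulAut.conj g • MG G t = MG G (cj g t) := by
  ext h
  rw [Solv.Coprime.mem_conj_smul, mem_MG, mem_MG]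
  have e : ((g⁻¹ * h * g : 𝔾) : 𝔸) - 1 = cj g⁻¹ ((h : 𝔸) - 1) := by
    rw [map_sub, map_one, cj_val, inv_inv]
  rw [e]
  refine and_congr ?_ ⟨fun h1 => by simpa using coreSp_cj g h1, fun h1 => by
    simpa using coreSp_cj g⁻¹ h1⟩
  have := Subgroup.mem_normalizer_iff.1 (Subgroup.inv_mem _ hg) h
  rw [inv_inv] at this
  exact this.symm

variable [Finite V]

theorem QD_cjN {g : 𝔾} (hg : g ∈ Subgroup.normalizer (G : Set 𝔾)) {t : 𝔸} (ht : t ∈ QD G) :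
    cj g t ∈ QD G :=
  QD.of_rk_le ht (QS_cjN hg ht.1) (fun h => ht.2.1 (cj_eq_zero.1 h)) (rk_conj g t).le

theorem QD_cj {g : 𝔾} (hg : g ∈ G) {t : 𝔸} (ht : t ∈ QD G) : cj g t ∈ QD G :=
  QD_cjN (Subgroup.le_normalizer hg) ht

theorem QD_conjIn {a b t : 𝔸} (ha : In G a) (hab : a * b = 1) (ht : t ∈ QD G) :
    a * t * b ∈ QD G := by
  obtain ⟨g, hg, e⟩ := ha
  rw [← cj_of_val e hab]
  exact QD_cj hg ht

theorem MG_congr {x c : 𝔸} (hx : x ∈ QD G) (hc : c ∈ Esp G x) (h0 : c ≠ 0) : MG G c = MG G x := by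
  ext g
  simp only [mem_MG, coreSp, Esp.ker_eq hx hc h0, Esp.range_eq hx hc h0]

theorem mem_normalizer_EG {g : 𝔾} (hg : g ∈ Subgroup.normalizer (G : Set 𝔾)) {x : 𝔸}
    (hx : x ∈ QD G) : g ∈ Subgroup.normalizer (EG G x : Set 𝔾) ↔ cj g x ∈ Esp G x := by
  rw [Solv.Coprime.mem_normalizer_iff_conj_smul, conj_EG hg hx.1.1, EG_eq_iff]
  exact ⟨fun h => h ▸ self_mem_Esp (QS_cjN hg hx.1),
    fun h => Esp.esp_eq hx h fun h0 => hx.2.1 (cj_eq_zero.1 h0)⟩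

theorem mem_normalizer_MG {g : 𝔾} (hg : g ∈ Subgroup.normalizer (G : Set 𝔾)) {x : 𝔸}
    (hx : x ∈ QD G) (h : g ∈ Subgroup.normalizer (EG G x : Set 𝔾)) :
    g ∈ Subgroup.normalizer (MG G x : Set 𝔾) := by
  rw [Solv.Coprime.mem_normalizer_iff_conj_smul, conj_MG hg,
    MG_congr hx ((mem_normalizer_EG hg hx).1 h) fun h0 => hx.2.1 (cj_eq_zero.1 h0)]

theorem cj_mem_Esp_of_norm {g : 𝔾} (hg : g ∈ Subgroup.normalizer (G : Set 𝔾)) {x c : 𝔸}
    (hx : x ∈ QD G) (h : g ∈ Subgroup.normalizer (EG G x : Set 𝔾)) (hc : c ∈ Esp G x) :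
    cj g c ∈ Esp G x := by
  have := Esp_cjN hg hx.1.1 hc
  rwa [Esp.esp_eq hx ((mem_normalizer_EG hg hx).1 h) fun h0 => hx.2.1 (cj_eq_zero.1 h0)] at this

theorem eq_of_opp {x s y y' : 𝔸} (hx : x ∈ QD G) (hs : s ∈ QD G) (h : x * s * x ≠ 0)
    (hy : y ∈ Esp G s) (hy' : y' ∈ Esp G s) (e : x * y * x = x * y' * x) : y = y' := by
  by_contra hne
  refine opp_of_mem_Esp k2 k3 hs hx h (sub_mem hy hy') (sub_ne_zero.2 hne) (self_mem_Esp hx.1)
    hx.2.1 ?_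
  rw [mul_sub, sub_mul, e, sub_self]

theorem mul_mul_mem_Esp {s t : 𝔸} (hs : s ∈ QS G) (ht : t ∈ QD G) : t * s * t ∈ Esp G t := by
  have := aeval_zz_mul_mem_Esp k2 k3 hs ht Polynomial.X
  rwa [Polynomial.aeval_X, zz_mul_right ht.1.1] at this

theorem ip_of {x y : 𝔸} (hx : x ∈ QD G) (hy : y ∈ QD G) (h : x * y * x = x) : IP x y :=
  ⟨hx.1.1, hy.1.1, h, eq_of_opp hx hy (by rw [h]; exact hx.2.1) (mul_mul_mem_Esp hx.1 hy)
    (self_mem_Esp hy.1) (by rw [← mul_assoc, ← mul_assoc, h, h])⟩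

theorem exists_ip {x s : 𝔸} (hx : x ∈ QD G) (hs : s ∈ QD G) (h : x * s * x ≠ 0) :
    ∃ y ∈ Esp G s, y ∈ QD G ∧ IP x y := by
  obtain ⟨y, hy, h0, h1, h2⟩ := exists_invpair k2 k3 hs hx h
  exact ⟨y, hy, Esp.qd hs hy h0, hx.1.1, Esp.sq hy, h1, h2⟩

theorem IP.opp {x y : 𝔸} (h : IP x y) (hx : x ∈ QD G) : x * y * x ≠ 0 := by
  rw [h.xyx]; exact hx.2.1

theorem opp_symm' {s t : 𝔸} (hs : s ∈ QD G) (ht : t ∈ QD G) (h : t * s * t ≠ 0) : s * t * s ≠ 0 :=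
  opp_symm k2 k3 hs.1 ht h

theorem idem_eq {x y x' y' : 𝔸} (hx : x ∈ QD G) (hy : y ∈ QD G) (h : IP x y) (h' : IP x' y')
    (hx' : x' ∈ Esp G x) (hy' : y' ∈ Esp G y) (hx0 : x' ≠ 0) : x' * y' = x * y := by
  have hy0 : y' ≠ 0 := fun e => hx0 (by rw [← h'.xyx, e, mul_zero, zero_mul])
  obtain ⟨a, ha⟩ := Esp.exists_right hx'
  obtain ⟨b, hb⟩ := Esp.exists_left (Esp.symm hy hy' hy0)
  calc x' * y' = x * y * (x' * y') := by rw [ha, ← mul_assoc, ← mul_assoc, h.xyx]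
    _ = x * y := by rw [hb, mul_assoc, mul_assoc, h'.yxy1]

theorem exists_trans {x y y' : 𝔸} (hx : x ∈ QD G) (hy : y ∈ QD G) (hy' : y' ∈ QD G)
    (h : IP x y) (h' : IP x y') : ∃ m c, D1 x y m ∧ In G (ex (ZMod p) m) ∧ c ∈ Esp G x ∧
      y' = (ex (ZMod p) m + c) * y * (ex (ZMod p) (-m) + -c) ∧
      (ex (ZMod p) m + c) * (ex (ZMod p) (-m) + -c) = 1 := by
  obtain ⟨m, c, hm, hc, e⟩ := exists_inter (k := ZMod p) h h'
  have hprod : ∀ t : ZMod p, (ex (ZMod p) m + c) * (ex (ZMod p) (t • -m) + (t * t) • -c) =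
      ex (ZMod p) ((1 - t) • m) + (1 - t * t) • c := by
    intro t
    have := mul3 h hm (hm.neg.smul t) ((hm.half (k := ZMod p)).add hc)
      (((hm.neg.smul t).half (k := ZMod p)).add (hc.neg.smul (t * t)))
    simp only [ex, add_assoc] at this ⊢
    rw [this]
    simp only [smul_mul_assoc, mul_smul_comm, mul_neg, neg_mul, neg_neg]
    have h2 : (2 : ZMod p) ≠ 0 := two_ne
    match_scalars <;> field_simp <;> ring
  have hinv : (ex (ZMod p) m + c) * (ex (ZMod p) (-m) + -c) = 1 := by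
    simpa [ex_zero] using hprod 1
  have hmx : (ex (ZMod p) m + c) * x = x := by
    simp only [ex, add_mul, one_mul, hm.mx, hc.cx h, smul_mul_assoc, mul_assoc, mul_zero, smul_zero,
      add_zero]
  have hxm : x * (ex (ZMod p) m + c) = x := by
    simp only [ex, mul_add, mul_one, hm.xm, hc.xc h, mul_smul_comm, hm.xm', smul_zero, add_zero]
  have hin : ∀ t s : ZMod p, t * s = 1 →
      In G (ex (ZMod p) ((1 - t) • m) + (1 - t * t) • c) := by
    intro t s hts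
    have e1 : hh x y' t s * (ex (ZMod p) m + c) = (ex (ZMod p) m + c) * hh x y t s := by
      set M := ex (ZMod p) m + c
      have a1 : x * y' * M = M * (x * y) := by
        rw [mul_assoc, ← e, ← mul_assoc, hxm, ← mul_assoc, hmx]
      have a2 : y' * x * M = M * (y * x) := by
        rw [mul_assoc, hxm, ← mul_assoc, e, mul_assoc, hmx]
      simp only [hh, add_mul, mul_add, smul_mul_assoc, mul_smul_comm, a1, a2, one_mul, mul_one]
    have e2 : hh x y' t s * hh x y s t =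
        (ex (ZMod p) m + c) * (ex (ZMod p) (t • -m) + (t * t) • -c) := by
      rw [← hh_conj_ex h hm.neg hc.neg hts, ← mul_assoc, ← mul_assoc, ← e1,
        mul_assoc (hh x y' t s), hinv, mul_one]
    rw [← hprod, ← e2]
    exact (in_hh h' hx.1 hy'.1 hts).mul (in_hh h hx.1 hy.1 (by rw [mul_comm, hts]))
  have h2 : (2 : ZMod p) ≠ 0 := two_ne
  have hm1 : In G (ex (ZMod p) m) := by
    have a1 := hin (-1) (-1) (by ring)
    rw [show (1 - -1 * -1 : ZMod p) = 0 by ring, zero_smul, add_zero] at a1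
    have a2 := a1.ex_smul h (hm.smul _) 2⁻¹
    rwa [smul_smul, show (2⁻¹ * (1 - -1) : ZMod p) = 1 by field_simp; ring, one_smul] at a2
  have hc1 : c ∈ QS G := by
    have a1 := hm1.mul (hin 2 2⁻¹ (by field_simp))
    rw [show (1 - 2 : ZMod p) = -1 by ring, neg_one_smul, ← ex_mul_add h hm.neg (hc.smul _),
      ← mul_assoc, ex_mul_ex_neg h2 h hm, one_mul] at a1
    refine mem_QS_of_in_smul (hc.mul_of (hc.xc h)) ?_ a1
    rw [show (1 - 2 * 2 : ZMod p) = -3 by ring]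
    exact neg_ne_zero.2 three_ne
  refine ⟨m, c, hm, hm1, mem_Esp_of_D2 h hc hc1, ?_, hinv⟩
  rw [e, mul_assoc, hinv, mul_one]

theorem exists_MG {x y y' : 𝔸} (hx : x ∈ QD G) (hy : y ∈ QD G) (hy' : y' ∈ QD G)
    (h : IP x y) (h' : IP x y') : ∃ g ∈ MG G x, cj g y = y' := by
  obtain ⟨m, c, hm, h1, hc, e, hinv⟩ := exists_trans hx hy hy' h h'
  have hc' := D2_of_mem_Esp h hc
  obtain ⟨g, hg, e1⟩ := h1.mul (in_of_QS' (Esp.qs hc))
  rw [ex_mul_add h hm hc'] at e1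
  refine ⟨g, ⟨hg, ?_⟩, by rw [cj_of_val e1 hinv, e]⟩
  have : (g : 𝔸) - 1 = m + ((2⁻¹ : ZMod p) • (m * m) + c) := by rw [e1, ex]; abel
  rw [this]
  exact add_mem hm.mem_coreSp ((hm.half.add hc').mem_coreSp h)

/-- transitivity on the opposite root groups -/
theorem exists_MG' {x s s' : 𝔸} (hx : x ∈ QD G) (hs : s ∈ QD G) (hs' : s' ∈ QD G)
    (h : x * s * x ≠ 0) (h' : x * s' * x ≠ 0) : ∃ g ∈ MG G x, cj g s ∈ Esp G s' := by
  obtain ⟨y, hy, hy1, hxy⟩ := exists_ip hx hs h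
  obtain ⟨y', hy', hy1', hxy'⟩ := exists_ip hx hs' h'
  obtain ⟨g, hg, e⟩ := exists_MG hx hy1 hy1' hxy hxy'
  refine ⟨g, hg, ?_⟩
  rw [← Esp.esp_eq hs' hy' hy1'.2.1, ← e]
  exact Esp_cjN (Subgroup.le_normalizer hg.1) hy1.1.1 (Esp.symm hs hy hy1.2.1)

end Cfsg.Lib.Flav
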