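import Mathlib
import Cfsg.Agent.Flav.Base
import Cfsg.Agent.Local.CharP
import Cfsg.Agent.Block.SylowIn
import Cfsg.Agent.Solv.PGroupNormal

/-!
The root elements opposite to a given one span; two root elements with the same opposites produce a
root element in the radical.
-/

set_option autoImplicit false
set_option linter.unusedSimpArgs false
set_option linter.unnecessarySeqFocus false
set_option linter.unusedSectionVars false

namespace Cfsg.Lib.Flav

open Cfsg.Lib.Class Pointwise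

variable {p : ℕ} [hp : Fact p.Prime] [h3 : Fact (3 < p)]
variable {V : Type*} [AddCommGroup V] [Module (ZMod p) V]
variable {G : Subgroup (LinearMap.GeneralLinearGroup (ZMod p) V)}

local notation "𝔸" => Module.End (ZMod p) V
local notation "𝔾" => LinearMap.GeneralLinearGroup (ZMod p) V

theorem cj_unitOf {s : 𝔸} (hs : s * s = 0) (a : 𝔸) : cj (unitOf s hs) a = (1 + s) * a * (1 - s) := rfl

theorem cj_unitOf_inv {s : 𝔸} (hs : s * s = 0) (a : 𝔸) :
    cj (unitOf s hs)⁻¹ a = (1 + -s) * a * (1 - -s) := by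
  rw [cj_apply, inv_inv, val_inv_unitOf, val_unitOf, sub_neg_eq_add, sub_eq_add_neg]

theorem three_roots {N : Type*} [AddCommGroup N] [Module (ZMod p) N] {a b d : N} {c₁ c₂ c₃ : ZMod p}
    (h12 : c₁ ≠ c₂) (h13 : c₁ ≠ c₃) (h23 : c₂ ≠ c₃) (e₁ : a + c₁ • b + (c₁ * c₁) • d = 0)
    (e₂ : a + c₂ • b + (c₂ * c₂) • d = 0) (e₃ : a + c₃ • b + (c₃ * c₃) • d = 0) : a = 0 := by
  have h : ((c₁ - c₂) * (c₁ - c₃) * (c₂ - c₃)) • a = 0 := by
    linear_combination (norm := module) (c₂ * c₃ * (c₂ - c₃)) • e₁ - (c₁ * c₃ * (c₁ - c₃)) • e₂ +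
      (c₁ * c₂ * (c₁ - c₂)) • e₃
  exact (smul_eq_zero.1 h).resolve_left
    (mul_ne_zero (mul_ne_zero (sub_ne_zero.2 h12) (sub_ne_zero.2 h13)) (sub_ne_zero.2 h23))

theorem two_good {N : Type*} [AddCommGroup N] [Module (ZMod p) N] {a : N} (ha : a ≠ 0) (b d : N) :
    ∃ c₁ c₂ : ZMod p, c₁ ≠ 0 ∧ c₂ ≠ 0 ∧ c₁ ≠ c₂ ∧ a + c₁ • b + (c₁ * c₁) • d ≠ 0 ∧
      a + c₂ • b + (c₂ * c₂) • d ≠ 0 := by
  have h2 : (2 : ZMod p) ≠ 0 := two_ne
  have h3' : (3 : ZMod p) ≠ 0 := three_ne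
  have h4 : (4 : ZMod p) ≠ 0 := four_ne
  have n1 : (1 : ZMod p) ≠ 2 := fun h => one_ne_zero (α := ZMod p) (by linear_combination -h)
  have n2 : (1 : ZMod p) ≠ 3 := fun h => h2 (by linear_combination -h)
  have n3 : (1 : ZMod p) ≠ 4 := fun h => h3' (by linear_combination -h)
  have n4 : (2 : ZMod p) ≠ 3 := fun h => one_ne_zero (α := ZMod p) (by linear_combination -h)
  have n5 : (2 : ZMod p) ≠ 4 := fun h => h2 (by linear_combination -h)
  have n6 : (3 : ZMod p) ≠ 4 := fun h => one_ne_zero (α := ZMod p) (by linear_combination -h)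
  by_cases e1 : a + (1 : ZMod p) • b + ((1 : ZMod p) * 1) • d = 0 <;>
  by_cases e2 : a + (2 : ZMod p) • b + ((2 : ZMod p) * 2) • d = 0 <;>
  by_cases e3 : a + (3 : ZMod p) • b + ((3 : ZMod p) * 3) • d = 0 <;>
  by_cases e4 : a + (4 : ZMod p) • b + ((4 : ZMod p) * 4) • d = 0 <;>
  first
  | exact ⟨1, 2, one_ne_zero, h2, n1, e1, e2⟩
  | exact ⟨1, 3, one_ne_zero, h3', n2, e1, e3⟩
  | exact ⟨1, 4, one_ne_zero, h4, n3, e1, e4⟩
  | exact ⟨2, 3, h2, h3', n4, e2, e3⟩
  | exact ⟨2, 4, h2, h4, n5, e2, e4⟩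
  | exact ⟨3, 4, h3', h4, n6, e3, e4⟩
  | exact absurd (three_roots n1 n2 n4 e1 e2 e3) ha
  | exact absurd (three_roots n1 n3 n5 e1 e2 e4) ha
  | exact absurd (three_roots n2 n3 n6 e1 e3 e4) ha
  | exact absurd (three_roots n4 n5 n6 e2 e3 e4) ha

/-- the elements killed by `x` from both sides -/
def kil (x : 𝔸) : Submodule (ZMod p) 𝔸 where
  carrier := {a | x * a * x = 0}
  zero_mem' := by simp
  add_mem' := by
    intro a b ha hb
    simp only [Set.mem_setOf_eq] at *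
    rw [mul_add, add_mul, ha, hb, add_zero]
  smul_mem' := by
    intro c a ha
    simp only [Set.mem_setOf_eq] at *
    rw [mul_smul_comm, smul_mul_assoc, ha, smul_zero]

theorem mem_kil {x a : 𝔸} : a ∈ kil x ↔ x * a * x = 0 := Iff.rfl

/-- the stabilizer of a subspace of the endomorphism ring -/
def stab (W : Submodule (ZMod p) 𝔸) : Subgroup 𝔾 where
  carrier := {g | ∀ a, a ∈ W ↔ cj g a ∈ W}
  one_mem' := by simp
  mul_mem' := by
    intro g h hg hh a
    rw [cj_mul, ← hg, ← hh]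
  inv_mem' := by
    intro g hg a
    rw [hg (cj g⁻¹ a), cj_cj_inv]

variable [Finite V]

instance finiteEnd : Finite (Module.End (ZMod p) V) := Finite.of_injective _ DFunLike.coe_injective

theorem nu_of_np (h : pCoreOf p G = ⊥) : NU G := fun N hN hn hu => by
  rw [eq_bot_iff, ← h]
  refine Local.le_pCoreOf hN (fun g hg => ?_) (isPGroup_of_nil fun g hg =>
    isNilpotent_of_isUnipotentOn hu hg)
  rw [Subgroup.mem_normalizer_iff]
  exact fun n => ⟨hn g hg n, fun h' => by simpa [mul_assoc] using hn _ (G.inv_mem hg) _ h'⟩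

/-- a group generated by a single class of root groups -/
structure One (G : Subgroup (LinearMap.GeneralLinearGroup (ZMod p) V)) : Prop where
  np : pCoreOf p G = ⊥
  gen : ∀ H : Subgroup (LinearMap.GeneralLinearGroup (ZMod p) V),
    (∀ s, ∀ hs : s ∈ QD G, unitOf s hs.1.1 ∈ H) → G ≤ H
  tr : ∀ s ∈ QD G, ∀ t ∈ QD G, ∃ g ∈ G, cj g s ∈ Esp G t

theorem span_conj {x s : 𝔸} (hs : s ∈ QS G) {a : 𝔸}
    (ha : a ∈ Submodule.span (ZMod p) {t | t ∈ QD G ∧ x * t * x ≠ 0}) :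
    (1 + s) * a * (1 - s) ∈ Submodule.span (ZMod p) {t | t ∈ QD G ∧ x * t * x ≠ 0} := by
  induction ha using Submodule.span_induction with
  | zero => simp
  | add a b _ _ ha hb => rw [mul_add, add_mul]; exact add_mem ha hb
  | smul c a _ ha => rw [mul_smul_comm, smul_mul_assoc]; exact Submodule.smul_mem _ c ha
  | mem t ht =>
    set S := Submodule.span (ZMod p) {t | t ∈ QD G ∧ x * t * x ≠ 0}
    have e : ∀ c : ZMod p, (1 + c • s) * t * (1 - c • s) =
        t + c • (s * t - t * s) + (c * c) • -(s * t * s) := by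
      intro c
      simp only [mul_add, add_mul, mul_sub, sub_mul, one_mul, mul_one, smul_mul_assoc, mul_smul_comm]
      module
    obtain ⟨c₁, c₂, h1, h2, h12, e1, e2⟩ := two_good (p := p) ht.2 (x * (s * t - t * s) * x)
      (x * -(s * t * s) * x)
    have key : ∀ c : ZMod p, c ≠ 0 → x * t * x + c • (x * (s * t - t * s) * x) +
        (c * c) • (x * -(s * t * s) * x) ≠ 0 → (s * t - t * s) + c • -(s * t * s) ∈ S := by
      intro c hc h
      have h1 : t + c • (s * t - t * s) + (c * c) • -(s * t * s) ∈ S := by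
        refine Submodule.subset_span ⟨e c ▸ QD.conj' ht.1 (QS.smul hs c), ?_⟩
        simpa only [mul_add, add_mul, smul_mul_assoc, mul_smul_comm] using h
      have h2 := S.smul_mem c⁻¹ (sub_mem h1 (Submodule.subset_span ht))
      convert h2 using 1
      match_scalars <;> field_simp <;> ring
    have a1 := key c₁ h1 e1
    have a2 := key c₂ h2 e2
    have h12' := sub_ne_zero.2 h12
    have a3 : -(s * t * s) ∈ S := by
      have := S.smul_mem (c₁ - c₂)⁻¹ (sub_mem a1 a2)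
      convert this using 1
      match_scalars <;> field_simp <;> ring
    have a4 : s * t - t * s ∈ S := by
      simpa using sub_mem a1 (S.smul_mem c₁ a3)
    have := e 1
    rw [one_smul] at this
    rw [this]
    exact add_mem (add_mem (Submodule.subset_span ht) (S.smul_mem _ a4)) (S.smul_mem _ a3)

theorem One.nu (h : One G) : NU G := nu_of_np h.np

theorem One.exists_opp (h : One G) {x : 𝔸} (hx : x ∈ QD G) : ∃ s ∈ QD G, x * s * x ≠ 0 := by
  obtain ⟨r, hr, h'⟩ := Class.exists_opp k2 k3 h.nu hx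
  exact ⟨r, hr, opp_symm' hx hr h'⟩

/-- the opposites of a root element span -/
theorem One.dens (h : One G) {x : 𝔸} (hx : x ∈ QD G) {W : Submodule (ZMod p) 𝔸}
    (hW : ∀ s ∈ QD G, x * s * x ≠ 0 → s ∈ W) {t : 𝔸} (ht : t ∈ QD G) : t ∈ W := by
  set S := Submodule.span (ZMod p) {t | t ∈ QD G ∧ x * t * x ≠ 0}
  have hS : S ≤ W := Submodule.span_le.2 fun s hs => hW s hs.1 hs.2
  have hG : G ≤ stab S := h.gen _ fun s hs a => ⟨fun ha => span_conj hs.1 ha, fun ha => by
    have := span_conj (QS.neg hs.1) ha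
    rwa [← cj_unitOf_inv hs.1.1, cj_inv_cj] at this⟩
  obtain ⟨r, hr, hr'⟩ := h.exists_opp hx
  obtain ⟨g, hg, e⟩ := h.tr t ht r hr
  refine hS ((hG hg t).2 (Submodule.subset_span ⟨QD_cj hg ht, ?_⟩))
  exact opp_of_mem_Esp k2 k3 hr hx hr' e (QD_cj hg ht).2.1 (self_mem_Esp hx.1) hx.2.1

theorem One.common (h : One G) {x x' : 𝔸} (hx : x ∈ QD G) (hx' : x' ∈ QD G) :
    ∃ s ∈ QD G, x * s * x ≠ 0 ∧ x' * s * x' ≠ 0 := by
  by_contra hn
  push Not at hn
  obtain ⟨r, hr, hr'⟩ := h.exists_opp hx'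
  exact hr' (h.dens hx (W := kil x') hn hr)

theorem comm_root {H : Subgroup 𝔾} {u v : 𝔸} (hu : u ∈ QD G) (hv : v ∈ QD G) (hu' : u ∈ QS H)
    (hv' : v ∈ QS H) (h : u * v * u = 0) (hne : u * v - v * u ≠ 0) {W : Submodule (ZMod p) 𝔸}
    (hW : ∀ g ∈ H, ∀ a ∈ W, cj g a ∈ W) (hη : v - u ∈ W) : ∃ s ∈ QD G, s ∈ QS H ∧ s ∈ W := by
  have h' := nonopp_symm k2 k3 hv hu.1 h
  refine ⟨_, (comm_struct k2 k3 hu hv h' hne).1, QS.comm hu' hv' h h', ?_⟩
  have := sub_mem (hW _ (QS.unitOf_mem hu') _ hη) hη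
  rw [cj_unitOf] at this
  convert this using 1
  simp only [mul_add, add_mul, mul_sub, sub_mul, one_mul, mul_one, h, hu.1.1, zero_mul]
  abel

theorem exists_root {H : Subgroup 𝔾} (hH : H ≤ G) {x y a : 𝔸} (hx : x ∈ QD G) (hy : y ∈ QD G)
    (ha : a ∈ QD G) (hx' : x ∈ QS H) (hy' : y ∈ QS H) (ha' : a ∈ QS H) (hxy : IP x y)
    (h1 : y * a * y = y) (h0 : x * a * x = 0) (hne : a ≠ x) {W : Submodule (ZMod p) 𝔸}
    (hW : ∀ g ∈ H, ∀ a ∈ W, cj g a ∈ W) (hη : a - x ∈ W) : ∃ s ∈ QD G, s ∈ QS H ∧ s ∈ W := by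
  by_cases hc : x * a - a * x = 0
  swap
  · exact comm_root hx ha hx' ha' h0 hc hW hη
  have h2 : (2 : ZMod p) ≠ 0 := two_ne
  have hya := ip_of hy ha h1
  have r1 : a * x = x * a := (sub_eq_zero.1 hc).symm
  have r1' : ∀ b, a * (x * b) = x * (a * b) := fun b => by rw [← mul_assoc, r1, mul_assoc]
  have r2 : a * (y * (x * a)) = x * a := by rw [← r1, ← mul_assoc, ← mul_assoc, hya.yxy]
  have r2' : ∀ b, a * (y * (x * (a * b))) = x * (a * b) := fun b => by
    rw [← mul_assoc x, ← mul_assoc y, ← mul_assoc a, r2]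
  have r3 : x * (a * (y * x)) = x * a := by rw [← r1', hxy.xyx1, r1]
  have r3' : ∀ b, x * (a * (y * (x * b))) = x * (a * b) := fun b => by
    rw [← mul_assoc y, ← mul_assoc a, ← mul_assoc x, r3, mul_assoc]
  obtain ⟨m, hm⟩ : ∃ m, m = x * y * a + a * y * x - x * a * y - y * x * a - (2 : ZMod p) • x := ⟨_, rfl⟩
  obtain ⟨d, hd⟩ : ∃ d, d = a + x - x * y * a - a * y * x + x * a * y + y * x * a := ⟨_, rfl⟩
  obtain ⟨z, hz, hz'⟩ := in_hh hxy hx' hy' (t := -1) (s := -1) (by ring)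
  have hzz := hh_mul_inv hxy (t := (-1 : ZMod p)) (s := -1) (by ring)
  have ea : a = x + m + d := by rw [hm, hd]; module
  have ez : cj z a = x - m + d := by
    rw [cj_of_val hz' hzz, hm, hd]
    simp only [hh, mul_add, add_mul, mul_sub, sub_mul, one_mul, mul_one, smul_mul_assoc, mul_smul_comm,
      mul_assoc, r1, r1', r2, r2', r3, r3', hxy.xx, hxy.xx', hxy.yy, hxy.yy', hxy.xyx1, hxy.xyx',
      hxy.yxy1, hxy.yxy', hya.yy, hya.yy', hya.xyx1, hya.xyx', hya.yxy1, hya.yxy', mul_zero, zero_mul,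
      smul_zero]
    module
  have ezx : cj z x = x := by
    rw [cj_of_val hz' hzz, hh_conj_D2 hxy (D2_of_mem_Esp hxy (self_mem_Esp hx.1))]
    simp
  have hb := QD_cj (hH hz) ha
  have hb' := QS_cjN (Subgroup.le_normalizer hz) ha'
  have hηz := hW z hz _ hη
  rw [map_sub, ezx] at hηz
  rw [ez] at hb hb' hηz
  have f0 : a * (x - m + d) * a = 0 := by
    rw [hm, hd]
    simp only [mul_add, add_mul, mul_sub, sub_mul, one_mul, mul_one, smul_mul_assoc, mul_smul_comm,
      mul_assoc, r1, r1', r2, r2', r3, r3', hxy.xx, hxy.xx', hxy.yy, hxy.yy', hxy.xyx1, hxy.xyx',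
      hxy.yxy1, hxy.yxy', hya.yy, hya.yy', hya.xyx1, hya.xyx', hya.yxy1, hya.yxy', mul_zero, zero_mul,
      smul_zero]
    module
  by_cases hc' : a * (x - m + d) - (x - m + d) * a = 0
  swap
  · exact comm_root ha hb ha' hb' f0 hc' hW (by simpa using sub_mem hηz hη)
  have F : d * m = (-4⁻¹ : ZMod p) • (a * (x - m + d) - (x - m + d) * a) ∧ d * d = 0 ∧
      (1 + a) * (1 + (x - m + d)) = (1 + (2 : ZMod p) • x) * (1 + (2 : ZMod p) • d) -
        (2 : ZMod p) • (d * m) ∧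
      d = d * x * y + m * y * (m * (1 - x * y - y * x)) + y * (d * x) ∧
      d * x * y = m * (1 - x * y - y * x) * ((-2⁻¹ : ZMod p) • (m * y)) ∧
      m * y * (d * x * y) = 0 ∧ m * (1 - x * y - y * x) = x * (y * m) ∧ x * a = d * x ∧
      m = x * (y * m) + m * y * x ∧ m * y * m = d * (1 - x * y - y * x) := by
    have h4 : (4 : ZMod p) ≠ 0 := four_ne
    rw [hm, hd]
    simp only [mul_add, add_mul, mul_sub, sub_mul, one_mul, mul_one, smul_mul_assoc, mul_smul_comm,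
      mul_assoc, r1, r1', r2, r2', r3, r3', hxy.xx, hxy.xx', hxy.yy, hxy.yy', hxy.xyx1, hxy.xyx',
      hxy.yxy1, hxy.yxy', hya.yy, hya.yy', hya.xyx1, hya.xyx', hya.yxy1, hya.yxy', mul_zero, zero_mul,
      smul_zero]
    refine ⟨?_, ?_, ?_, ?_, ?_, ?_, ?_, ?_, ?_, ?_⟩ <;> match_scalars <;> (try field_simp) <;> (try ring)
  obtain ⟨f1, f2, f3, f4, f5, f6, f7, f8, f9, f10⟩ := F
  rw [hc', smul_zero] at f1
  by_cases hd0 : d = 0
  · rw [hd0, zero_mul] at f8 f10
    have hq := QS.sub ha' hx' (r1.trans f8) f8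
    have em : a - x = m := by rw [ea, hd0]; abel
    refine ⟨_, QD.of_rk_le hy (QS.mono hH hq) (sub_ne_zero.2 hne) ?_, hq, hη⟩
    rw [em, f9]
    refine (rk_add_le _ _).trans (le_trans ?_ (rk_add_rk_le f10))
    rw [add_comm]
    exact add_le_add (rk_mul_le_left _ _) (rk_mul_le_right _ _)
  · have hq : d ∈ QS H := by
      refine mem_QS_of_in_smul f2 h2 ?_
      have := (in_of_QS hx' (-2)).mul ((in_of_QS' ha').mul (in_of_QS' hb'))
      have e : (1 + (-2 : ZMod p) • x) * (1 + (2 : ZMod p) • x) = 1 := by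
        simp only [mul_add, add_mul, one_mul, mul_one, smul_mul_assoc, mul_smul_comm, hxy.xx,
          smul_zero]
        module
      rwa [f3, f1, smul_zero, sub_zero, ← mul_assoc, e, one_mul] at this
    refine ⟨d, QD.of_rk_le hx (QS.mono hH hq) hd0 ?_, hq, ?_⟩
    · have g1 := rk_mul_add_finrank (m * y) (m * (1 - x * y - y * x))
      have g2 := rk_mul_add_finrank d x
      have g3 : rk (d * x * y) ≤ Module.finrank (ZMod p) (LinearMap.range (m * (1 - x * y - y * x)) ⊓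
          LinearMap.ker (m * y) : Submodule (ZMod p) V) :=
        Submodule.finrank_mono (le_inf (by rw [f5]; exact range_mul_le _ _)
          (mul_eq_zero_iff_range_le_ker.1 f6))
      have g4 : rk (m * (1 - x * y - y * x)) ≤ Module.finrank (ZMod p) (LinearMap.range x ⊓
          LinearMap.ker d : Submodule (ZMod p) V) :=
        Submodule.finrank_mono (le_inf (by rw [f7]; exact range_mul_le _ _)
          (mul_eq_zero_iff_range_le_ker.1 (by rw [← mul_assoc, f1, zero_mul])))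
      have g5 := rk_mul_le_right y (d * x)
      have g6 := rk_add_le (d * x * y + m * y * (m * (1 - x * y - y * x))) (y * (d * x))
      have g7 := rk_add_le (d * x * y) (m * y * (m * (1 - x * y - y * x)))
      rw [← f4] at g6
      omega
    · have := W.smul_mem (2⁻¹ : ZMod p) (add_mem hηz hη)
      convert this using 1
      rw [ea]
      match_scalars <;> field_simp <;> ring

/-- the radical -/
def rad (S : Set 𝔸) : Submodule (ZMod p) 𝔸 := ⨅ s ∈ S, kil s

theorem mem_rad {S : Set 𝔸} {a : 𝔸} : a ∈ rad S ↔ ∀ s ∈ S, s * a * s = 0 := by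
  simp only [rad, Submodule.mem_iInf, mem_kil]

theorem cj_mem_rad {S : Set 𝔸} {g : 𝔾} (hg : ∀ s ∈ S, cj g⁻¹ s ∈ S) {a : 𝔸} (ha : a ∈ rad S) :
    cj g a ∈ rad S := by
  rw [mem_rad] at ha ⊢
  intro s hs
  rw [← cj_cj_inv g s, ← map_mul, ← map_mul, ha _ (hg s hs), map_zero]

/-- a `p`-subgroup containing the unipotent radical normalizes the root group -/
theorem One.le_norm (h : One G) {x : 𝔸} (hx : x ∈ QD G) {S : Subgroup 𝔾} (hS : S ≤ G)
    (hSp : IsPGroup p S) (hM : MG G x ≤ S) : S ≤ Subgroup.normalizer (EG G x : Set 𝔾) := by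
  by_contra hn
  have hMN : ∀ {t : 𝔸}, t ∈ QD G → MG G t ≤ Subgroup.normalizer (EG G t : Set 𝔾) := fun ht g hg =>
    (mem_normalizer_EG (Subgroup.le_normalizer hg.1) ht).2
      ((cj_eq_of_mem_MG hg (self_mem_Esp ht.1)).symm ▸ self_mem_Esp ht.1)
  set S₁ := S ⊓ Subgroup.normalizer (EG G x : Set 𝔾) with hS₁
  have hlt : S₁ < S := lt_of_le_of_ne inf_le_left fun e => hn (e ▸ inf_le_right)
  obtain ⟨s, ⟨hs, hsn⟩, hs'⟩ := SetLike.exists_of_lt (Block.lt_inf_normalizer_of_lt hSp hlt)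
  have hsG := Subgroup.le_normalizer (hS hs)
  have hx1 := QD_cjN hsG hx
  have hM1 : MG G x ≤ S₁ := le_inf hM (hMN hx)
  have hM2 : MG G (cj s x) ≤ S₁ := by
    rw [← conj_MG hsG, ← Solv.Coprime.mem_normalizer_iff_conj_smul.1 hsn]
    exact Subgroup.pointwise_smul_le_pointwise_smul_iff.2 hM1
  have hN2 : S₁ ≤ Subgroup.normalizer (EG G (cj s x) : Set 𝔾) := by
    intro g hg
    have hg' : s⁻¹ * g * s ∈ S₁ := (Subgroup.mem_normalizer_iff''.1 hsn g).1 hg
    rw [mem_normalizer_EG (Subgroup.le_normalizer (hS hg.1)) hx1]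
    have := Esp_cjN hsG hx.1.1 ((mem_normalizer_EG (Subgroup.le_normalizer (hS hg'.1)) hx).1 hg'.2)
    rwa [← cj_mul, ← mul_assoc, ← mul_assoc, mul_inv_cancel, one_mul, cj_mul] at this
  obtain ⟨e, ⟨he, hec⟩, he1⟩ := (Subgroup.bot_or_exists_ne_one _).resolve_left
    (Solv.PG.inf_centralizer_ne_bot (MG_isPGroup (G := G) x)
      ((MG_isPGroup _).to_le (EG_le_MG hx1.1.1)) (hM1.trans hN2) (EG_ne_bot hx1.1 hx1.2.1))
  obtain ⟨a, ha, rfl⟩ := exists_eq_unitOf_of_mem_EG he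
  have ha0 : a ≠ 0 := fun e => he1 ((unitOf_eq_one_iff _).2 e)
  have haD := Esp.qd hx1 ha ha0
  have hca : ∀ g ∈ MG G x, cj g a = a := fun g hg => by
    have := congrArg Units.val (hec g hg)
    rw [cj_eq_self_iff]
    simpa [mul_add, add_mul] using this
  obtain ⟨r, hr, hr1, hr2⟩ := h.common hx haD
  obtain ⟨y, hy, hyD, hay⟩ := exists_ip haD hr hr2
  have hxy : x * y * x ≠ 0 :=
    opp_of_mem_Esp k2 k3 hr hx hr1 hy hyD.2.1 (self_mem_Esp hx.1) hx.2.1
  obtain ⟨x₁, hx₁, hx₁D, hyx⟩ := exists_ip hyD hx (opp_symm' hyD hx hxy)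
  have hcomm : x₁ * a = a * x₁ := by
    have := hca _ (EG_le_MG hx.1.1 (unitOf_mem_EG hx₁))
    rw [cj_eq_self_iff] at this
    simpa [mul_add, add_mul] using this
  obtain ⟨t, ht, -, ht'⟩ := exists_root le_rfl hx₁D hyD haD hx₁D.1 hyD.1 haD.1 hyx.symm hay.yxy
    (by rw [hcomm, mul_assoc, hx₁D.1.1, mul_zero]) (fun e => hs' ⟨hs,
      (mem_normalizer_EG hsG hx).2 (by
        rw [← Esp.esp_eq hx hx₁ hx₁D.2.1, ← e]
        exact Esp.symm hx1 ha ha0)⟩) (W := rad (QD G))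
    (fun g hg b hb => cj_mem_rad (fun s hs => QD_cj (G.inv_mem hg) hs) hb) (mem_rad.2 fun w hw => by
      by_cases hxw : x * w * x = 0
      · have h1 := nonopp_of_mem_Esp k2 k3 hx hw (nonopp_symm k2 k3 hw hx.1 hxw) hx₁
          (self_mem_Esp hw.1) (self_mem_Esp hw.1)
        have h2 : w * a * w = 0 := by
          by_contra h2
          obtain ⟨g, hg, e⟩ := exists_MG' haD hyD hw (hay.opp haD) (opp_symm' haD hw h2)
          rw [MG_congr hx1 ha ha0] at hg
          have hgG := Subgroup.le_normalizer hg.1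
          have a1 := (mem_normalizer_EG hgG hx).1 (hM2 hg).2
          have a2 : cj g x * cj g y * cj g x ≠ 0 := by
            rw [← map_mul, ← map_mul]; exact fun h0 => hxy (cj_eq_zero.1 h0)
          exact a2 (nonopp_of_mem_Esp k2 k3 hw hx hxw e a1 a1)
        rw [mul_sub, sub_mul, h1, h2, sub_self]
      · obtain ⟨g, hg, e⟩ := exists_MG' hx hyD hw hxy hxw
        have a1 : cj g y * (a - x₁) * cj g y = 0 := by
          rw [← hca g hg, ← cj_eq_of_mem_MG hg hx₁, ← map_sub, ← map_mul, ← map_mul, mul_sub, sub_mul,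
            hay.yxy, hyx.xyx, sub_self, map_zero]
        have a2 := Esp.symm hw e (QD_cj hg.1 hyD).2.1
        exact mul_mul_eq_zero_of_mem_Esp a1 a2 a2)
  obtain ⟨w, hw, hw'⟩ := Class.exists_opp k2 k3 h.nu ht
  exact hw' (mem_rad.1 ht' w hw)

end Cfsg.Lib.Flav
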