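import Mathlib
import Cfsg.Agent.Flav.Dens
import Cfsg.Agent.Solv.CoprimeSylow
import Cfsg.Agent.Solv.CoprimeFixed

/-!
Invariant pairs of opposite root groups and the degree one part of the grading.
-/

set_option autoImplicit false
set_option linter.unusedSimpArgs false
set_option linter.unnecessarySeqFocus false
set_option linter.unusedSectionVars false

namespace Cfsg.Lib.Flav

open Cfsg.Lib.Class Pointwise

section Grp

variable {Γ : Type*} [Group Γ]

/-- `P` is a `p`-subgroup of `G` invariant under `R` and `C_G(R)`, `R` acting coprimely. -/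
structure Hyp (p : ℕ) (G R P : Subgroup Γ) : Prop where
  norm : R ≤ Subgroup.normalizer (G : Set Γ)
  cop : (Nat.card R).Coprime (Nat.card G)
  solv : Group.IsSolvable R
  le : P ≤ G
  pg : IsPGroup p P
  nR : R ≤ Subgroup.normalizer (P : Set Γ)
  nC : G ⊓ Subgroup.centralizer (R : Set Γ) ≤ Subgroup.normalizer (P : Set Γ)

variable {p : ℕ} [Fact p.Prime] {G R P : Subgroup Γ}

theorem Hyp.inf (h : Hyp p G R P) {H : Subgroup Γ} (hH : H ≤ G)
    (hR : R ≤ Subgroup.normalizer (H : Set Γ)) : Hyp p H R (P ⊓ H) :=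
  ⟨hR, Solv.Coprime.hcop_mono h.cop le_rfl hH, h.solv, inf_le_right, h.pg.to_inf_left,
    (le_inf h.nR hR).trans Subgroup.inf_normalizer_le_normalizer_inf,
    (le_inf ((inf_le_inf_right _ hH).trans h.nC) (inf_le_left.trans Subgroup.le_normalizer)).trans
      Subgroup.inf_normalizer_le_normalizer_inf⟩

variable [Finite Γ]

theorem Hyp.exists_sup (h : Hyp p G R P) {M : Subgroup Γ} (hM : M ≤ G) (hMp : IsPGroup p M)
    (hR : R ≤ Subgroup.normalizer (M : Set Γ)) :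
    ∃ S ≤ G, IsPGroup p S ∧ P ≤ S ∧ M ≤ S := by
  obtain ⟨S, h1, h2, h3, h4, h5⟩ :=
    Solv.Coprime.exists_le_invariant_sylow' h.norm h.cop (Or.inl h.solv) hM hMp hR
  obtain ⟨T, g1, g2, g3, g4, g5⟩ :=
    Solv.Coprime.exists_le_invariant_sylow' h.norm h.cop (Or.inl h.solv) h.le h.pg h.nR
  obtain ⟨c, hc, e⟩ :=
    Solv.Coprime.invariant_sylow_conj' h.norm h.cop (Or.inl h.solv) g2 g3 g4 g5 h2 h3 h4 h5
  refine ⟨S, h2, h3, ?_, h1⟩
  rw [← e, ← Solv.Coprime.mem_normalizer_iff_conj_smul.1 (h.nC hc)]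
  exact Subgroup.pointwise_smul_le_pointwise_smul_iff.2 g1

theorem Hyp.core (h : Hyp p G R P) {Y : Subgroup Γ} (hY : Y ≤ G)
    (hR : R ≤ Subgroup.normalizer (Y : Set Γ))
    (hC : G ⊓ Subgroup.centralizer (R : Set Γ) ≤ Subgroup.normalizer (Y : Set Γ)) :
    Hyp p G R (pCoreOf p Y) :=
  ⟨h.norm, h.cop, h.solv, (Local.pCoreOf_le Y).trans hY, Local.isPGroup_pCoreOf Y,
    hR.trans (Local.normalizer_le_normalizer_pCoreOf Y),
    hC.trans (Local.normalizer_le_normalizer_pCoreOf Y)⟩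

theorem Hyp.map (h : Hyp p G R P) {Γ' : Type*} [Group Γ'] (f : Γ →* Γ') :
    Hyp p (G.map f) (R.map f) (P.map f) :=
  ⟨(Subgroup.map_mono h.norm).trans (Subgroup.le_normalizer_map f),
    (h.cop.coprime_dvd_left (Subgroup.card_map_dvd R f)).coprime_dvd_right
      (Subgroup.card_map_dvd G f),
    by haveI := h.solv; exact Group.isSolvable_of_surjective (f.subgroupMap_surjective R),
    Subgroup.map_mono h.le, h.pg.map f,
    (Subgroup.map_mono h.nR).trans (Subgroup.le_normalizer_map f), by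
      rw [← Solv.Coprime.map_inf_centralizer f h.norm h.cop (Or.inl h.solv)]
      exact (Subgroup.map_mono h.nC).trans (Subgroup.le_normalizer_map f)⟩

end Grp

variable {p : ℕ} [hp : Fact p.Prime] [h3 : Fact (3 < p)]
variable {V : Type*} [AddCommGroup V] [Module (ZMod p) V]
variable {G : Subgroup (LinearMap.GeneralLinearGroup (ZMod p) V)}

local notation "𝔸" => Module.End (ZMod p) V
local notation "𝔾" => LinearMap.GeneralLinearGroup (ZMod p) V

theorem cj_ex (g : 𝔾) (m : 𝔸) : cj g (ex (ZMod p) m) = ex (ZMod p) (cj g m) := by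
  simp only [ex, map_add, map_one, map_smul, map_mul]

theorem D1.congr {x y x' y' m : 𝔸} (h' : IP x' y') (e1 : x' * y' = x * y) (e2 : y' * x' = y * x)
    (hm : D1 x y m) : D1 x' y' m :=
  ⟨by rw [← h'.xyx1, e2, mul_assoc, mul_assoc, hm.xm, mul_zero, mul_zero],
    by rw [← h'.xyx, e1, ← mul_assoc, ← mul_assoc, hm.mx, zero_mul, zero_mul],
    by rw [e1, mul_assoc m, e2, ← mul_assoc m, hm.eq]⟩

theorem swap {x y n : 𝔸} (h : IP x y) (hx : x ∈ QS G) (hy : y ∈ QS G) (hn : D1 y x n)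
    (hn' : In G (ex (ZMod p) n)) :
    D1 x y (x * n - n * x) ∧ In G (ex (ZMod p) (x * n - n * x)) := by
  refine ⟨⟨?_, ?_, ?_⟩, ?_⟩
  · simp only [mul_sub, h.xx', hn.ymy1 h.symm, sub_self]
  · simp only [sub_mul, mul_assoc, h.xx, hn.ymy1 h.symm, mul_zero, sub_self]
  · simp only [sub_mul, mul_sub, mul_assoc, h.xyx', h.xyx1, hn.xm', hn.mx', mul_zero]
    abel
  · obtain ⟨g, hg, e⟩ := ((in_of_QS' hx).mul (in_of_QS' (QS.neg hy))).mul (in_of_QS' hx)
    have hinv : (1 + x) * (1 + -y) * (1 + x) * ((1 - x) * (1 + y) * (1 - x)) = 1 := by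
      simp only [mul_add, add_mul, mul_sub, sub_mul, mul_neg, neg_mul, mul_one, one_mul, mul_assoc,
        h.xyx', h.yxy', h.xx', h.yy', h.xyx1, h.yxy1, h.xx, h.yy, mul_zero, zero_mul, neg_zero]
      abel
    have e1 : cj g n = x * n - n * x := by
      rw [cj_of_val e hinv]
      have := hn.eq
      simp only [mul_assoc] at this
      simp only [mul_add, add_mul, mul_sub, sub_mul, mul_neg, neg_mul, mul_one, one_mul, mul_assoc,
        h.xyx', h.yxy', h.xx', h.yy', h.xyx1, h.yxy1, h.xx, h.yy, mul_zero, zero_mul, neg_zero,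
        hn.xm, hn.xm', hn.mx, hn.mx', hn.ymy1 h.symm, hn.ymy' h.symm]
      linear_combination (norm := abel) -this
    rw [← e1, ← cj_ex]
    exact hn'.cjN (Subgroup.le_normalizer hg)

theorem br_mem_QS {x y m m' : 𝔸} (h : IP x y) (hm : D1 x y m) (hm' : D1 x y m')
    (h1 : In G (ex (ZMod p) m)) (h1' : In G (ex (ZMod p) m')) : m * m' - m' * m ∈ QS G := by
  have hc := (hm.mul hm').sub (hm'.mul hm)
  refine mem_QS_of_in (hc.mul_of (hc.xc h)) ?_
  rw [← ex_comm (k := ZMod p) two_ne h hm hm']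
  exact ((h1.mul h1').mul (h1.inv (ex_mul_ex_neg two_ne h hm))).mul
    (h1'.inv (ex_mul_ex_neg two_ne h hm'))

/-- the degree one part -/
def L1 (G : Subgroup 𝔾) {x y : 𝔸} (h : IP x y) : Submodule (ZMod p) 𝔸 where
  carrier := {m | D1 x y m ∧ In G (ex (ZMod p) m)}
  zero_mem' := ⟨D1.zero, by rw [ex_zero]; exact In.one⟩
  add_mem' := by
    rintro m m' ⟨hm, h1⟩ ⟨hm', h1'⟩
    refine ⟨hm.add hm', ?_⟩
    rw [← ex_add two_ne h hm hm']
    exact (h1.mul h1').mul (in_of_QS (br_mem_QS h hm hm' h1 h1') _)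
  smul_mem' := by
    rintro c m ⟨hm, h1⟩
    exact ⟨hm.smul c, h1.ex_smul h hm c⟩

/-- the component of degree one -/
def comp1 (x y : 𝔸) : 𝔸 →ₗ[ZMod p] 𝔸 where
  toFun a := x * y * a * (1 - x * y - y * x) + (1 - x * y - y * x) * a * (y * x)
  map_add' a b := by simp only [mul_add, add_mul]; abel
  map_smul' c a := by simp only [mul_smul_comm, smul_mul_assoc, smul_add, RingHom.id_apply]

theorem comp1_apply (x y a : 𝔸) :
    comp1 x y a = x * y * a * (1 - x * y - y * x) + (1 - x * y - y * x) * a * (y * x) := rfl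

variable [Finite V]

theorem exists_decomp {x y t : 𝔸} (hx : x ∈ QD G) (hy : y ∈ QD G) (h : IP x y) (ht : t ∈ QD G)
    (hyt : y * t * y ≠ 0) : ∃ n c, ∃ b ∈ QD G, D1 y x n ∧ In G (ex (ZMod p) n) ∧ c ∈ Esp G y ∧
      b ∈ Esp G x ∧ t = (ex (ZMod p) n + c) * b * (ex (ZMod p) (-n) + -c) := by
  obtain ⟨t', ht', ht'D, hyt'⟩ := exists_ip hy ht hyt
  obtain ⟨n, c, hn, hn', hc, e, hinv⟩ := exists_trans hy hx ht'D h.symm hyt'
  obtain ⟨g, hg, e1⟩ := hn'.mul (in_of_QS' (Esp.qs hc))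
  rw [ex_mul_add h.symm hn (D2_of_mem_Esp h.symm hc)] at e1
  rw [← cj_of_val e1 hinv] at e
  refine ⟨n, c, cj g⁻¹ t, QD_cj (G.inv_mem hg) ht, hn, hn', hc, ?_, by
    rw [← cj_of_val e1 hinv, cj_cj_inv]⟩
  have := Esp_cjN (Subgroup.le_normalizer (G.inv_mem hg)) ht'D.1.1 (Esp.symm ht ht' ht'D.2.1)
  rwa [e, cj_inv_cj] at this

theorem One.comp1_mem (hG : One G) {x y t : 𝔸} (hx : x ∈ QD G) (hy : y ∈ QD G) (h : IP x y)
    (ht : t ∈ QD G) : comp1 x y t ∈ L1 G h := by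
  refine hG.dens hy (W := (L1 G h).comap (comp1 x y)) (fun t ht hyt => ?_) ht
  obtain ⟨n, c, b, hb, hn, hn', hc, hb', e⟩ := exists_decomp hx hy h ht hyt
  obtain ⟨y', hy', hy'D, hby⟩ := exists_ip hb hy
    (opp_of_mem_Esp k2 k3 hy hx (h.opp hx) (self_mem_Esp hy.1) hy.2.1 hb' hb.2.1)
  have e1 := idem_eq hx hy h hby hb' hy' hb.2.1
  have e2 := idem_eq hy hx h.symm hby.symm hy' hb' hy'D.2.1
  obtain ⟨a1, a2⟩ := swap hby hb.1 hy'D.1 (hn.congr hby.symm e2 e1) hn'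
  have a3 : b * n - n * b ∈ L1 G h := ⟨a1.congr h e1.symm e2.symm, a2⟩
  rw [Submodule.mem_comap]
  convert neg_mem a3 using 1
  have d1 := (hn.half (k := ZMod p)).add (D2_of_mem_Esp h.symm hc)
  have d2 := (hn.neg.half (k := ZMod p)).add (D2_of_mem_Esp h.symm hc).neg
  have d3 := D2_of_mem_Esp h hb'
  rw [e, comp1_apply, ex, ex, add_assoc, add_assoc (1 + -n)]
  generalize (2⁻¹ : ZMod p) • (n * n) + c = c₁ at d1
  generalize (2⁻¹ : ZMod p) • (-n * -n) + -c = c₂ at d2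
  rw [← d1, ← d2, ← d3]
  simp only [mul_add, add_mul, mul_sub, sub_mul, mul_neg, neg_mul, mul_one, one_mul, mul_assoc,
    h.xyx', h.yxy', h.xx', h.yy', h.xyx1, h.yxy1, h.xx, h.yy, mul_zero, zero_mul, neg_zero,
    hn.xm, hn.xm', hn.mx, hn.mx', hn.ymy1 h.symm, hn.ymy' h.symm]
  abel

theorem One.star (hG : One G) {x y m : 𝔸} (hx : x ∈ QD G) (hy : y ∈ QD G) (h : IP x y)
    (hm : m ∈ L1 G h) {C : Subalgebra (ZMod p) 𝔸} (hxC : x ∈ C) (hyC : y ∈ C) (hmC : m ∈ C)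
    (hz : ∀ m' ∈ L1 G h, m' ∈ C → m * m' = m' * m) {t : 𝔸} (ht : t ∈ QD G) (htC : t ∈ C) :
    y * (ex (ZMod p) (-m) * t * ex (ZMod p) m) * y = y * t * y := by
  have h2 : (2 : ZMod p) ≠ 0 := two_ne
  have hD := hm.1
  have hexC : ∀ a ∈ C, ex (ZMod p) a ∈ C := fun a ha =>
    add_mem (add_mem C.one_mem ha) (C.smul_mem (mul_mem ha ha) _)
  have m3 : m * (m * m) = 0 := (hD.mul hD).of_mul_eq hD.mx
  have m3' : ∀ a, m * (m * (m * a)) = 0 := fun a => by
    rw [← mul_assoc m m, ← mul_assoc, mul_assoc m m, m3, zero_mul]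
  have key : ∀ c : ZMod p, y * (ex (ZMod p) (-(c • m)) * t * ex (ZMod p) (c • m) * m -
      m * (ex (ZMod p) (-(c • m)) * t * ex (ZMod p) (c • m))) * y = 0 := by
    intro c
    have hf : ex (ZMod p) (-(c • m)) * t * ex (ZMod p) (c • m) ∈ QD G :=
      QD_conjIn (neg_mem ((L1 G h).smul_mem c hm)).2 (ex_neg_mul_ex h2 h (hD.smul c)) ht
    have hfC : ex (ZMod p) (-(c • m)) * t * ex (ZMod p) (c • m) ∈ C :=
      mul_mem (mul_mem (hexC _ (neg_mem (C.smul_mem hmC c))) htC) (hexC _ (C.smul_mem hmC c))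
    generalize ex (ZMod p) (-(c • m)) * t * ex (ZMod p) (c • m) = f at hf hfC
    have e0C : 1 - x * y - y * x ∈ C :=
      sub_mem (sub_mem C.one_mem (mul_mem hxC hyC)) (mul_mem hyC hxC)
    have := hz _ (hG.comp1_mem hx hy h hf) (add_mem (mul_mem (mul_mem (mul_mem hxC hyC) hfC) e0C)
      (mul_mem (mul_mem e0C hfC) (mul_mem hyC hxC)))
    have h1 := congrArg (fun a => y * a * y) this
    simp only [comp1_apply, mul_add, add_mul, mul_sub, sub_mul, mul_one, one_mul, mul_assoc,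
      h.xyx', h.yxy', h.xx', h.yy', h.xyx1, h.yxy1, h.xx, h.yy, mul_zero, zero_mul,
      hD.xm, hD.xm', hD.mx, hD.mx', hD.ymy1 h, hD.ymy' h] at h1 ⊢
    linear_combination (norm := abel) -h1
  have h24 : (24 : ZMod p) ≠ 0 := by
    rw [show (24 : ZMod p) = 2 * 3 * 4 by norm_num]
    exact mul_ne_zero (mul_ne_zero h2 three_ne) four_ne
  rw [← sub_eq_zero]
  refine ((smul_eq_zero (r := (24 : ZMod p))).1 ?_).resolve_left h24
  have k0 := key 0
  have k1 := key 1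
  have k2 := key (-1)
  have k3 := key 2
  simp only [ex, mul_add, add_mul, mul_sub, sub_mul, mul_neg, neg_mul, neg_neg, mul_one, one_mul,
    mul_assoc, smul_mul_assoc, mul_smul_comm, m3, m3', mul_zero, zero_mul, smul_zero] at k0 k1 k2 k3 ⊢
  linear_combination (norm := skip) (13 : ZMod p) • k0 + (13 : ZMod p) • k1 - k2 - k3
  match_scalars <;> (try field_simp) <;> (try ring)

theorem One.exists_opp_fixed (hG : One G) {x : 𝔸} (hx : x ∈ QD G) {A : Subgroup 𝔾}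
    (hA : A ≤ Subgroup.normalizer (G : Set 𝔾)) (hs : Group.IsSolvable A)
    (hc : (Nat.card A).Coprime (Nat.card (MG G x)))
    (hAx : A ≤ Subgroup.normalizer (EG G x : Set 𝔾)) :
    ∃ y ∈ QD G, IP x y ∧ A ≤ Subgroup.normalizer (EG G y : Set 𝔾) := by
  obtain ⟨s, hs1, hs2⟩ := hG.exists_opp hx
  obtain ⟨k, hk, h⟩ := Solv.Coprime.exists_conj_invariant (K := MG G x)
    (fun a ha => mem_normalizer_MG (hA ha) hx (hAx ha)) hc (Or.inl hs) (P := EG G s) (fun a ha => by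
      have h1 := QD_cjN (hA ha) hs1
      have h2 := QD_cjN (hA ha) hx
      have h3 : cj a x * cj a s * cj a x ≠ 0 := by
        rw [← map_mul, ← map_mul]; exact fun h0 => hs2 (cj_eq_zero.1 h0)
      obtain ⟨k, hk, e⟩ := exists_MG' hx hs1 h1 hs2 (opp_of_mem_Esp k2 k3 h1 h2 h3
        (self_mem_Esp h1.1) h1.2.1 (Esp.symm hx ((mem_normalizer_EG (hA ha) hx).1 (hAx ha)) h2.2.1)
        hx.2.1)
      refine ⟨k, hk, ?_⟩
      rw [conj_EG (hA ha) hs1.1.1, conj_EG (Subgroup.le_normalizer hk.1) hs1.1.1,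
        Esp.eg_eq h1 e (QD_cj hk.1 hs1).2.1])
  rw [conj_EG (Subgroup.le_normalizer hk.1) hs1.1.1] at h
  have h1 := QD_cj hk.1 hs1
  obtain ⟨y, hy, hyD, hxy⟩ := exists_ip hx h1 (by
    rw [← cj_eq_of_mem_MG hk (self_mem_Esp hx.1), ← map_mul, ← map_mul]
    exact fun h0 => hs2 (cj_eq_zero.1 h0))
  exact ⟨y, hyD, hxy, by rwa [Esp.eg_eq h1 hy hyD.2.1]⟩

theorem One.exists_pair (hG : One G) {R P : Subgroup 𝔾} (h : Hyp p G R P) {t : 𝔸} (ht : t ∈ QD G) :
    ∃ x ∈ QD G, ∃ y ∈ QD G, IP x y ∧ R ≤ Subgroup.normalizer (EG G x : Set 𝔾) ∧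
      R ≤ Subgroup.normalizer (EG G y : Set 𝔾) := by
  obtain ⟨k, hk, h1⟩ := Solv.Coprime.exists_conj_invariant h.norm h.cop (Or.inl h.solv)
    (P := EG G t) (fun a ha => by
      have h1 := QD_cjN (h.norm ha) ht
      obtain ⟨k, hk, e⟩ := hG.tr t ht _ h1
      refine ⟨k, hk, ?_⟩
      rw [conj_EG (h.norm ha) ht.1.1, conj_EG (Subgroup.le_normalizer hk) ht.1.1,
        Esp.eg_eq h1 e (QD_cj hk ht).2.1])
  rw [conj_EG (Subgroup.le_normalizer hk) ht.1.1] at h1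
  obtain ⟨y, hy, h2, h3⟩ := hG.exists_opp_fixed (QD_cj hk ht) h.norm h.solv
    (Solv.Coprime.hcop_mono h.cop le_rfl (MG_le _)) h1
  exact ⟨_, QD_cj hk ht, y, hy, h2, h1, h3⟩

theorem One.hyp_norm (hG : One G) {R P : Subgroup 𝔾} (h : Hyp p G R P) {x : 𝔸} (hx : x ∈ QD G)
    (hR : R ≤ Subgroup.normalizer (EG G x : Set 𝔾)) :
    P ≤ Subgroup.normalizer (EG G x : Set 𝔾) := by
  obtain ⟨S, h1, h2, h3, h4⟩ := h.exists_sup (MG_le x) (MG_isPGroup x)
    fun a ha => mem_normalizer_MG (h.norm ha) hx (hR ha)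
  exact h3.trans (hG.le_norm hx h1 h2 h4)

theorem quad_comm {x s c : 𝔸} (hx : x ∈ QD G) (hs : s ∈ QS G)
    (h : unitOf s hs.1 ∈ Subgroup.normalizer (EG G x : Set 𝔾)) (hc : c ∈ Esp G x) :
    s * c = c * s := by
  by_cases h0 : c = 0
  · simp [h0]
  have hu := Subgroup.le_normalizer (QS.unitOf_mem hs)
  have a1 := cj_mem_Esp_of_norm hu hx h hc
  have a2 := cj_mem_Esp_of_norm (Subgroup.inv_mem _ hu) hx (Subgroup.inv_mem _ h) hc
  rw [cj_unitOf] at a1
  rw [cj_unitOf_inv] at a2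
  have h2 : (2 : ZMod p) ≠ 0 := two_ne
  have b1 : s * c - c * s ∈ Esp G x := by
    convert (Esp G x).smul_mem (2⁻¹ : ZMod p) (sub_mem a1 a2) using 1
    simp only [mul_add, add_mul, mul_sub, sub_mul, mul_neg, neg_mul, neg_neg, mul_one, one_mul]
    match_scalars <;> (try field_simp) <;> (try ring)
  have b2 : s * c * s ∈ Esp G x := by
    convert sub_mem (add_mem hc b1) a1 using 1
    noncomm_ring
  have b3 : s * c * s = 0 := by
    by_contra h1
    apply h1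
    rw [mul_eq_zero_iff_range_le_ker.2 (show LinearMap.range c ≤ LinearMap.ker s by
      rw [Esp.range_eq hx hc h0, ← Esp.range_eq hx b2 h1, ← mul_eq_zero_iff_range_le_ker,
        ← mul_assoc, ← mul_assoc, hs.1, zero_mul, zero_mul]), zero_mul]
  by_contra h1
  have h1' := sub_ne_zero.2 h1
  apply h1
  rw [mul_eq_zero_iff_range_le_ker.2 (show LinearMap.range c ≤ LinearMap.ker s by
      rw [Esp.range_eq hx hc h0, ← Esp.range_eq hx b1 h1', ← mul_eq_zero_iff_range_le_ker,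
        mul_sub, ← mul_assoc, ← mul_assoc, hs.1, b3, zero_mul, sub_zero]),
    mul_eq_zero_iff_range_le_ker.2 (show LinearMap.range s ≤ LinearMap.ker c by
      rw [Esp.ker_eq hx hc h0, ← Esp.ker_eq hx b1 h1', ← mul_eq_zero_iff_range_le_ker,
        sub_mul, b3, mul_assoc, hs.1, mul_zero, sub_zero])]

theorem cj_hh {x y : 𝔸} (hx : x ∈ QD G) (hy : y ∈ QD G) (h : IP x y) {g : 𝔾}
    (hg : g ∈ Subgroup.normalizer (G : Set 𝔾)) (h1 : g ∈ Subgroup.normalizer (EG G x : Set 𝔾))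
    (h2 : g ∈ Subgroup.normalizer (EG G y : Set 𝔾)) (t s : ZMod p) :
    cj g (hh x y t s) = hh x y t s := by
  have a1 := (mem_normalizer_EG hg hx).1 h1
  have a2 := (mem_normalizer_EG hg hy).1 h2
  have e1 := idem_eq hx hy h (h.cj g) a1 a2 (QD_cjN hg hx).2.1
  have e2 := idem_eq hy hx h.symm (h.symm.cj g) a2 a1 (QD_cjN hg hy).2.1
  simp only [hh, map_add, map_one, map_smul, map_mul, e1, e2]

end Cfsg.Lib.Flav
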