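import Mathlib
import Cfsg.Agent.Flav.Deg
import Cfsg.Agent.CIT.Basic
import Cfsg.Agent.Perm.PermModule

/-!
Flavell's theorem on quadratic elements: the case of a single class of root groups.
-/

set_option autoImplicit false
set_option linter.unusedSimpArgs false
set_option linter.unnecessarySeqFocus false
set_option linter.unusedSectionVars false

namespace Cfsg.Lib.Flav

open Cfsg.Lib.Class Pointwise

variable {p : ℕ} [hp : Fact p.Prime] [h3 : Fact (3 < p)]
variable {V : Type*} [AddCommGroup V] [Module (ZMod p) V]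
variable {G : Subgroup (LinearMap.GeneralLinearGroup (ZMod p) V)}

local notation "𝔸" => Module.End (ZMod p) V
local notation "𝔾" => LinearMap.GeneralLinearGroup (ZMod p) V

/-- the units commuting with a set of endomorphisms -/
def fixr (S : Set 𝔸) : Subgroup 𝔾 where
  carrier := {g | ∀ a ∈ S, cj g a = a}
  one_mem' := by simp
  mul_mem' := by
    intro g h hg hh a ha
    rw [cj_mul, hh a ha, hg a ha]
  inv_mem' := by
    intro g hg a ha
    conv_lhs => rw [← hg a ha]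
    rw [cj_inv_cj]

theorem mem_fixr {S : Set 𝔸} {g : 𝔾} : g ∈ fixr S ↔ ∀ a ∈ S, cj g a = a := Iff.rfl

theorem cj_unitOf_eq_iff {s a : 𝔸} (hs : s * s = 0) : cj (unitOf s hs) a = a ↔ s * a = a * s := by
  rw [cj_eq_self_iff, val_unitOf, add_mul, mul_add, one_mul, mul_one, add_right_inj]

theorem mem_fixr_iff {S : Set 𝔸} {g : 𝔾} :
    g ∈ fixr S ↔ (g : 𝔸) ∈ Subalgebra.centralizer (ZMod p) S := by
  rw [mem_fixr, Subalgebra.mem_centralizer_iff]
  exact forall₂_congr fun a _ => cj_eq_self_iff.trans eq_comm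

theorem mem_normalizer_fixr {S : Set 𝔸} {g : 𝔾} (h : ∀ a ∈ S, cj g a ∈ S) (h' : ∀ a ∈ S, cj g⁻¹ a ∈ S) :
    g ∈ Subgroup.normalizer (fixr S : Set 𝔾) := by
  rw [Subgroup.mem_normalizer_iff]
  refine fun u => ⟨fun hu a ha => ?_, fun hu a ha => ?_⟩
  · rw [cj_mul, cj_mul, hu _ (h' a ha), cj_cj_inv]
  · have := hu _ (h a ha)
    rw [cj_mul, cj_mul, cj_inv_cj] at this
    rw [← cj_inv_cj g (cj u a), this, cj_inv_cj]

/-- the conjugation representation -/
def cjRep (T : Subgroup 𝔾) : Representation (ZMod p) T 𝔸 where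
  toFun g := (cj (g : 𝔾)).toLinearMap
  map_one' := by ext a; simp
  map_mul' g h := by
    refine LinearMap.ext fun a => ?_
    simp [cj_mul]

theorem not_opp_of_isPGroup {K : Subgroup 𝔾} (hK : IsPGroup p K) {s t : 𝔸} (h : IP s t)
    (hs : In K (1 + s)) (ht : In K (1 - t)) : s = 0 := by
  obtain ⟨n, hn, e⟩ := (hs.mul ht).mul hs
  have h4 : n ^ 4 = 1 := by
    apply Units.ext
    rw [Units.val_pow_eq_pow_val, show (4 : ℕ) = 2 * 2 by rfl, pow_mul, pow_two, pow_two, e,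
      invpair_w_sq h.xx h.yy h.xyx h.yxy, Units.val_one]
    have := invpair_zz_idem h.xx h.yy h.xyx h.yxy
    linear_combination (norm := noncomm_ring) 4 * this
  obtain ⟨k, hk⟩ := hK ⟨n, hn⟩
  have hk' : n ^ p ^ k = 1 := congrArg Subtype.val hk
  have hcop : Nat.Coprime 4 (p ^ k) := by
    refine Nat.Coprime.pow_right _ ?_
    rw [show (4 : ℕ) = 2 ^ 2 by rfl]
    refine Nat.Coprime.pow_left _ ((Nat.coprime_primes Nat.prime_two hp.out).2 ?_)
    have := h3.out
    omega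
  have h1 : n = 1 := by
    rw [← orderOf_eq_one_iff]
    exact Nat.eq_one_of_dvd_coprimes hcop (orderOf_dvd_of_pow_eq_one h4) (orderOf_dvd_of_pow_eq_one hk')
  rw [h1, Units.val_one] at e
  have := congrArg (fun a => s * a * s) e
  simp only [mul_add, add_mul, mul_sub, sub_mul, mul_one, one_mul, mul_assoc, h.xx, h.xx', h.xyx1,
    h.xyx', mul_zero, zero_mul] at this
  simpa using this

variable [Finite V]

theorem One.no_root (hG : One G) {R P : Subgroup 𝔾} (h : Hyp p G R P)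
    (IH : ∀ H < G, ∀ P', Hyp p H R P' → ∀ g ∈ P', ((g : 𝔸) - 1) * ((g : 𝔸) - 1) = 0 →
      g ∈ pCoreOf p H) {x y : 𝔸} (hx : x ∈ QD G) (hy : y ∈ QD G) (hxy : IP x y)
    (hRx : R ≤ Subgroup.normalizer (EG G x : Set 𝔾)) (hRy : R ≤ Subgroup.normalizer (EG G y : Set 𝔾))
    {m : 𝔸} (hm : m ∈ L1 G hxy) (hm0 : m ≠ 0) {s : 𝔸} (hs : s ∈ QD G) (hsP : unitOf s hs.1.1 ∈ P) :
    False := by
  have h2 : (2 : ZMod p) ≠ 0 := two_ne
  obtain ⟨z, hz, hz'⟩ := in_hh hxy hx.1 hy.1 (t := -1) (s := -1) (by ring)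
  have hzz := hh_mul_inv hxy (t := (-1 : ZMod p)) (s := -1) (by ring)
  have hcz : ∀ g ∈ Subgroup.normalizer (G : Set 𝔾), g ∈ Subgroup.normalizer (EG G x : Set 𝔾) →
      g ∈ Subgroup.normalizer (EG G y : Set 𝔾) → g ∈ Subgroup.centralizer ({z} : Set 𝔾) := by
    intro g a b c
    have := cj_hh hx hy hxy a b c (-1) (-1)
    rw [← hz', cj_eq_self_iff] at this
    exact Subgroup.mem_centralizer_singleton_iff.2 (Units.ext this)
  set H := G ⊓ Subgroup.centralizer ({z} : Set 𝔾) with hH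
  have hlt : H < G := by
    refine lt_of_le_of_ne inf_le_left fun e => hm0 ?_
    obtain ⟨g, hg, e1⟩ := hm.2
    have a1 : (g : 𝔸) * z = z * g :=
      congrArg Units.val (Subgroup.mem_centralizer_singleton_iff.1 (e.ge hg).2)
    have a2 := hh_conj_ex hxy hm.1 D2.zero (t := (-1 : ZMod p)) (s := -1) (by ring)
    rw [add_zero, smul_zero, add_zero, ← e1, ← hz', ← a1, mul_assoc, hz', hzz, mul_one, e1] at a2
    simp only [ex, smul_mul_assoc, mul_smul_comm] at a2
    refine (smul_eq_zero.1 (show (2 : ZMod p) • m = 0 by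
      linear_combination (norm := module) a2)).resolve_left h2
  have hRH : R ≤ Subgroup.normalizer (H : Set 𝔾) := fun a ha =>
    Subgroup.inf_normalizer_le_normalizer_inf ⟨h.norm ha,
      Subgroup.le_normalizer (hcz a (h.norm ha) (hRx ha) (hRy ha))⟩
  have huG := QS.unitOf_mem hs.1
  have huz := hcz _ (Subgroup.le_normalizer huG) (hG.hyp_norm h hx hRx hsP) (hG.hyp_norm h hy hRy hsP)
  have hu := IH H hlt _ (h.inf inf_le_left hRH) (unitOf s hs.1.1) ⟨hsP, huG, huz⟩ (by simp [hs.1.1])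
  have hzs : cj z s = s := by
    have := congrArg Units.val (Subgroup.mem_centralizer_singleton_iff.1 huz)
    rw [cj_eq_self_iff]
    simpa [mul_add, add_mul, eq_comm] using this
  have hzN := Subgroup.le_normalizer hz
  obtain ⟨t, ht, hst, hzt⟩ := hG.exists_opp_fixed hs (A := Subgroup.zpowers z)
    (Subgroup.zpowers_le.2 hzN) (Solv.Coprime.isSolvable_zpowers z) (by
      obtain ⟨k, hk⟩ := (MG_isPGroup (G := G) s).exists_card_eq
      rw [Nat.card_zpowers, hk]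
      refine Nat.Coprime.pow_right _ (Nat.Coprime.coprime_dvd_left
        (orderOf_dvd_of_pow_eq_one (n := 2) (Units.ext (by rw [pow_two, Units.val_mul, hz', hzz]; rfl)))
        ((Nat.coprime_primes Nat.prime_two hp.out).2 ?_))
      have := h3.out
      omega)
    (Subgroup.zpowers_le.2 ((mem_normalizer_EG hzN hs).2 (hzs.symm ▸ self_mem_Esp hs.1)))
  have hzt' : cj z t = t := eq_of_opp hs ht (hst.opp hs)
    ((mem_normalizer_EG hzN ht).1 (hzt (Subgroup.mem_zpowers z))) (self_mem_Esp ht.1) (by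
      have := (hst.cj z).xyx
      rw [hzs] at this
      rw [this, hst.xyx])
  have hv : (unitOf t ht.1.1)⁻¹ ∈ H := H.inv_mem ⟨QS.unitOf_mem ht.1,
    Subgroup.mem_centralizer_singleton_iff.2 (Units.ext (by
      have := cj_eq_self_iff.1 hzt'
      simp [mul_add, add_mul, this]))⟩
  have hvp : IsPGroup p (Subgroup.zpowers (unitOf t ht.1.1)⁻¹) :=
    (MG_isPGroup (G := G) t).to_le (Subgroup.zpowers_le.2 (Subgroup.inv_mem _
      (EG_le_MG ht.1.1 (unitOf_mem_EG (self_mem_Esp ht.1)))))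
  have hK := IsPGroup.to_sup_of_normal_left' (Local.isPGroup_pCoreOf (p := p) H) hvp
    ((Subgroup.zpowers_le.2 hv).trans (Local.le_normalizer_pCoreOf H))
  exact hs.2.1 (not_opp_of_isPGroup hK hst ⟨_, Subgroup.mem_sup_left hu, rfl⟩
    ⟨_, Subgroup.mem_sup_right (Subgroup.mem_zpowers _), rfl⟩)

theorem One.core (hG : One G) {R P : Subgroup 𝔾} (h : Hyp p G R P)
    (IH : ∀ H < G, ∀ P', Hyp p H R P' → ∀ g ∈ P', ((g : 𝔸) - 1) * ((g : 𝔸) - 1) = 0 →
      g ∈ pCoreOf p H) {g : 𝔾} (hg : g ∈ P) (hq : ((g : 𝔸) - 1) * ((g : 𝔸) - 1) = 0) : g = 1 := by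
  by_contra hg1
  have h2 : (2 : ZMod p) ≠ 0 := two_ne
  have hξ : (g : 𝔸) - 1 ∈ QS P := mem_QS_of_in hq ⟨g, hg, by abel⟩
  obtain ⟨t, ht⟩ : (QD G).Nonempty := by
    obtain ⟨t, ht, h⟩ := (measure rk).wf.has_min {s | s ∈ QS G ∧ s ≠ 0}
      ⟨_, QS.mono h.le hξ, fun e => hg1 (Units.ext (sub_eq_zero.1 e))⟩
    exact ⟨t, ht.1, ht.2, fun s hs hs0 => not_lt.1 (h s ⟨hs, hs0⟩)⟩
  obtain ⟨x, hx, y, hy, hxy, hRx, hRy⟩ := hG.exists_pair h ht
  set C := Subalgebra.centralizer (ZMod p) (QS P) with hC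
  have hE : ∀ {u : 𝔸}, u ∈ QD G → R ≤ Subgroup.normalizer (EG G u : Set 𝔾) →
      ∀ c ∈ Esp G u, c ∈ C := fun hu hR c hc s hs =>
    quad_comm hu (QS.mono h.le hs) (hG.hyp_norm h hu hR (QS.unitOf_mem hs)) hc
  have hxC := hE hx hRx x (self_mem_Esp hx.1)
  have hyC := hE hy hRy y (self_mem_Esp hy.1)
  have hexC : ∀ a ∈ C, ex (ZMod p) a ∈ C := fun a ha =>
    add_mem (add_mem C.one_mem ha) (C.smul_mem (mul_mem ha ha) _)
  set T := P ⊓ fixr (C : Set 𝔸) with hT
  have hTC : ∀ a, (∀ τ ∈ T, cj τ a = a) → a ∈ C := fun a ha s hs =>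
    (cj_unitOf_eq_iff hs.1).1 (ha _ ⟨QS.unitOf_mem hs, fun c hc =>
      (cj_unitOf_eq_iff hs.1).2 (hc s hs)⟩)
  have hTL : ∀ τ ∈ T, ∀ m ∈ L1 G hxy, cj τ m ∈ L1 G hxy := by
    rintro τ hτ m ⟨hm, hm'⟩
    have a1 := hτ.2 x hxC
    have a2 := hτ.2 y hyC
    refine ⟨⟨?_, ?_, ?_⟩, ?_⟩
    · rw [← a1, ← map_mul, hm.xm, map_zero]
    · rw [← a1, ← map_mul, hm.mx, map_zero]
    · rw [← a1, ← a2, ← map_mul, ← map_mul, ← map_mul, ← map_mul, ← map_add, hm.eq]
    · rw [← cj_ex]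
      exact hm'.cjN (Subgroup.le_normalizer (h.le hτ.1))
  set B := Submodule.span (ZMod p) {b | ∃ τ ∈ T, ∃ m ∈ L1 G hxy, b = cj τ m - m} with hB
  by_cases hB0 : B = ⊥
  · have hL : ∀ m ∈ L1 G hxy, m ∈ C := fun m hm => hTC m fun τ hτ => by
      rw [← sub_eq_zero, ← Submodule.mem_bot (ZMod p), ← hB0]
      exact Submodule.subset_span ⟨τ, hτ, m, hm, rfl⟩
    have hall : ∀ w ∈ QD G, w ∈ C := fun w hw =>
      hG.dens hx (W := Subalgebra.toSubmodule C) (fun w hw hxw => by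
        obtain ⟨n, c, b, -, hn, hn', hc, hb, e⟩ := exists_decomp hy hx hxy.symm hw hxw
        have hnC := hL n ⟨hn, hn'⟩
        have hcC := hE hx hRx c hc
        rw [e, Subalgebra.mem_toSubmodule]
        exact mul_mem (mul_mem (add_mem (hexC _ hnC) hcC) (hE hy hRy b hb))
          (add_mem (hexC _ (neg_mem hnC)) (neg_mem hcC))) hw
    have hc : G ≤ Subgroup.centralizer ({g} : Set 𝔾) := hG.gen _ fun s hs =>
      Subgroup.mem_centralizer_singleton_iff.2 (Units.ext (by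
        have := hall s hs _ hξ
        simp only [Units.val_mul, val_unitOf]
        linear_combination (norm := noncomm_ring) -this))
    apply hg1
    rw [← Subgroup.mem_bot, ← hG.np]
    refine Local.le_pCoreOf (Subgroup.zpowers_le.2 (h.le hg)) (fun a ha => ?_)
      (h.pg.to_le (Subgroup.zpowers_le.2 hg)) (Subgroup.mem_zpowers g)
    refine Subgroup.centralizer_le_normalizer _ ?_
    rintro _ ⟨k, rfl⟩
    exact ((Commute.zpow_right (Subgroup.mem_centralizer_singleton_iff.1 (hc ha)) k).eq).symm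
  obtain ⟨m, hmB, hm0, hmT⟩ := Perm.exists_fixed_vector_of_isPGroup (h.pg.to_inf_left (K := fixr C))
    (cjRep T) B (fun τ b hb => by
      induction hb using Submodule.span_induction with
      | zero => simp
      | add a b _ _ ha hb => rw [map_add]; exact add_mem ha hb
      | smul c a _ ha => rw [map_smul]; exact B.smul_mem c ha
      | mem b hb =>
        obtain ⟨σ, hσ, m, hm, rfl⟩ := hb
        refine Submodule.subset_span ⟨(τ : 𝔾) * σ * (τ : 𝔾)⁻¹, T.mul_mem (T.mul_mem τ.2 hσ) (T.inv_mem τ.2),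
          cj (τ : 𝔾) m, hTL _ τ.2 m hm, ?_⟩
        change cj (τ : 𝔾) _ = _
        rw [map_sub, cj_mul, cj_mul, cj_inv_cj]) hB0
  have hmC : m ∈ C := hTC m fun τ hτ => hmT ⟨τ, hτ⟩
  have hm : m ∈ L1 G hxy := (Submodule.span_le.2 (by
    rintro _ ⟨σ, hσ, m, hm, rfl⟩
    exact sub_mem (hTL σ hσ m hm) hm) : B ≤ L1 G hxy) hmB
  have hz : ∀ m' ∈ L1 G hxy, m' ∈ C → m * m' = m' * m := by
    intro m' hm' hm'C
    clear hmT hmC hm hm0
    induction hmB using Submodule.span_induction with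
    | zero => simp
    | add a b _ _ ha hb => rw [add_mul, mul_add, ha, hb]
    | smul c a _ ha => rw [smul_mul_assoc, mul_smul_comm, ha]
    | mem b hb =>
      obtain ⟨σ, hσ, n, hn, rfl⟩ := hb
      have a1 := hσ.2 _ (hE hx hRx _ (mem_Esp_of_D2 hxy ((hn.1.mul hm'.1).sub (hm'.1.mul hn.1))
        (br_mem_QS hxy hn.1 hm'.1 hn.2 hm'.2)))
      rw [map_sub, map_mul, map_mul, hσ.2 m' hm'C] at a1
      linear_combination (norm := noncomm_ring) a1
  obtain ⟨u, hu, hu'⟩ := hm.2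
  have hui := ex_mul_ex_neg h2 hxy hm.1
  have hui' := ex_neg_mul_ex h2 hxy hm.1
  set y' := cj u y with hy'
  have hy'D := QD_cj hu hy
  have hst : ∀ w ∈ QD G, w ∈ C → y' * w * y' = cj u (y * w * y) := by
    intro w hw hwC
    rw [← hG.star hx hy hxy hm hxC hyC hmC hz hw hwC, map_mul, map_mul, cj_of_val hu' hui (_ * _)]
    simp only [← mul_assoc, hui, one_mul]
    rw [mul_assoc _ (ex (ZMod p) m), hui, mul_one]
  have hux : cj u x = x := by
    rw [cj_eq_self_iff, hu']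
    simp only [ex, mul_add, add_mul, mul_one, one_mul, smul_mul_assoc, mul_smul_comm, mul_assoc,
      hm.1.xm, hm.1.mx, hm.1.xm', mul_zero]
  set Y := G ⊓ fixr (QS P) with hY
  have hYC : ∀ {a}, a ∈ QS G → a ∈ C → a ∈ QS Y := fun {a} ha haC =>
    mem_QS_of_in ha.1 ⟨unitOf a ha.1, ⟨QS.unitOf_mem ha, mem_fixr_iff.2 (add_mem C.one_mem haC)⟩, rfl⟩
  have hcjC : ∀ v ∈ Y, ∀ a ∈ C, cj v a ∈ C := fun v hv a ha =>
    mul_mem (mul_mem (mem_fixr_iff.1 hv.2) ha) (mem_fixr_iff.1 (Y.inv_mem hv).2)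
  have huY : u ∈ Y := ⟨hu, mem_fixr_iff.2 (hu' ▸ hexC m hmC)⟩
  obtain ⟨s, hs, hsY, hsW⟩ := exists_root (H := Y) inf_le_left hy hx hy'D (hYC hy.1 hyC)
    (hYC hx.1 hxC) (hYC hy'D.1 (hcjC u huY y hyC)) hxy.symm
    (by have := (hxy.cj u).xyx; rwa [hux] at this)
    (nonopp_symm k2 k3 hy hy'D.1 (by rw [hst y hy hyC, hxy.yy, zero_mul, map_zero]))
    (fun e => hm0 (by
      rw [cj_eq_self_iff, hu'] at e
      have a1 := congrArg (fun a => x * a * (1 - x * y - y * x)) e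
      have a2 := congrArg (fun a => (1 - x * y - y * x) * a * x) e
      have a3 := hm.1.eq
      have a4 := hm.1.mul hm.1
      unfold D2 at a4
      unfold ex at a1 a2
      rw [← a4] at a1 a2
      simp only [mul_add, add_mul, mul_sub, sub_mul, mul_one, one_mul, mul_assoc, smul_mul_assoc,
        mul_smul_comm, hxy.xyx', hxy.yxy', hxy.xx', hxy.yy', hxy.xyx1, hxy.yxy1, hxy.xx, hxy.yy,
        mul_zero, zero_mul, hm.1.xm, hm.1.xm', hm.1.mx, hm.1.mx', hm.1.ymy1 hxy, hm.1.ymy' hxy,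
        smul_zero, sub_self] at a1 a2 a3
      linear_combination (norm := abel) a2 - a1 - a3))
    (W := rad {w | w ∈ QD G ∧ w ∈ C})
    (fun v hv a ha => cj_mem_rad (S := {w | w ∈ QD G ∧ w ∈ C}) (fun w hw =>
      ⟨QD_cj (G.inv_mem hv.1) hw.1, hcjC _ (Y.inv_mem hv) w hw.2⟩) ha) (mem_rad.2 fun w hw => by
      by_cases hyw : y * w * y = 0
      · rw [mul_sub, sub_mul, nonopp_symm k2 k3 hw.1 hy.1 hyw, nonopp_symm k2 k3 hw.1 hy'D.1
          (by rw [hst w hw.1 hw.2, hyw, map_zero]), sub_self]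
      · obtain ⟨w', hw', hw'D, hyw'⟩ := exists_ip hy hw.1 hyw
        have hw'C : w' ∈ C := fun s hs => by
          have hsG := QS.mono h.le hs
          have b1 := (cj_unitOf_eq_iff hs.1).2 (hw.2 s hs)
          have b2 := (cj_unitOf_eq_iff hs.1).2 (hyC s hs)
          refine (cj_unitOf_eq_iff hs.1).1 (eq_of_opp hy hw.1 hyw ?_ hw' ?_)
          · have := Esp_cjN (Subgroup.le_normalizer (QS.unitOf_mem hsG)) hw.1.1.1 hw'
            rwa [b1] at this
          · have := (hyw'.cj (unitOf s hs.1)).xyx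
            rw [b2] at this
            rw [this, hyw'.xyx]
        have b3 := ip_of hy'D hw'D (by rw [hst w' hw'D hw'C, hyw'.xyx])
        have b4 := Esp.symm hw.1 hw' hw'D.2.1
        exact mul_mul_eq_zero_of_mem_Esp (by rw [mul_sub, sub_mul, b3.yxy, hyw'.yxy, sub_self]) b4 b4)
  have hsu := QS.unitOf_mem hsY
  have hsC : s ∈ C := by simpa using sub_mem (mem_fixr_iff.1 hsu.2) C.one_mem
  have hN : ∀ v ∈ Subgroup.normalizer (G : Set 𝔾), v ∈ Subgroup.normalizer (P : Set 𝔾) →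
      v ∈ Subgroup.normalizer (Y : Set 𝔾) := fun v a b =>
    Subgroup.inf_normalizer_le_normalizer_inf ⟨a, mem_normalizer_fixr (fun _ => QS_cjN b)
      fun _ => QS_cjN (Subgroup.inv_mem _ b)⟩
  refine hG.no_root (h.core (Y := Y) inf_le_left (fun v hv => hN v (h.norm hv) (h.nR hv))
    fun v hv => hN v (Subgroup.le_normalizer hv.1) (h.nC hv)) IH hx hy hxy hRx hRy hm hm0 hs ?_
  by_contra hn
  obtain ⟨v, hv, hnp⟩ := CIT.exists_conj_not_isPGroup (p := p) (L := Y)
    (fun R a b c => Local.le_pCoreOf a c b) hsu hn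
  have hs' := QD_cj hv.1 hs
  have hun := isUnipotentOn_sup_EG k2 k3 hs hs' (mem_rad.1 hsW _ ⟨hs', hcjC v hv s hsC⟩)
  refine hnp ((isPGroup_of_nil fun g hg => isNilpotent_of_isUnipotentOn hun hg).to_le
    ((Subgroup.closure_le _).2 ?_))
  rintro _ (rfl | rfl)
  · exact Subgroup.mem_sup_left (unitOf_mem_EG (self_mem_Esp hs.1))
  · refine Subgroup.mem_sup_right (mem_EG.2 ?_)
    rw [← cj_val, val_unitOf, map_add, map_one, add_sub_cancel_left]
    exact self_mem_Esp hs'.1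

end Cfsg.Lib.Flav
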