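import Mathlib
import Cfsg.Agent.Flav.Deg
import Cfsg.Agent.Solv.NilpotentHall

/-!
Projection of an invariant `p`-subgroup to a component.
-/

set_option autoImplicit false
set_option linter.unusedSectionVars false

namespace Cfsg.Lib.Flav

open Pointwise Subgroup

variable {Γ : Type*} [Group Γ] [Finite Γ] {p : ℕ} [Fact p.Prime] {G R P : Subgroup Γ}

theorem exists_diag {L : Subgroup Γ} (hR : R ≤ normalizer (G : Set Γ)) (hL : L ≤ G)
    (hc : ∀ ρ ∈ R, ρ ∉ normalizer (L : Set Γ) → ∀ a ∈ L, ρ * a * ρ⁻¹ ∈ centralizer (L : Set Γ))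
    {l : Γ} (hl : l ∈ L) (hl' : l ∈ centralizer ((R ⊓ normalizer (L : Set Γ) : Subgroup Γ) : Set Γ)) :
    ∃ c ∈ G ⊓ centralizer (R : Set Γ), l⁻¹ * c ∈ centralizer (L : Set Γ) := by
  classical
  have := Fintype.ofFinite Γ
  set S : Finset Γ := Finset.univ.filter fun s => ∃ ρ ∈ R, s = ρ * l * ρ⁻¹ with hS
  have hmem : ∀ {s}, s ∈ S ↔ ∃ ρ ∈ R, s = ρ * l * ρ⁻¹ := by simp [hS]
  have key : ∀ ρ ∈ R, ρ * l * ρ⁻¹ ≠ l → ρ * l * ρ⁻¹ ∈ centralizer (L : Set Γ) := by
    intro ρ hρ hne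
    refine hc ρ hρ (fun hn => hne ?_) l hl
    rw [hl' ρ ⟨hρ, hn⟩, mul_inv_cancel_right]
  have comm : {x | x ∈ S.val}.Pairwise Commute := by
    intro a ha b hb hab
    obtain ⟨ρ, hρ, rfl⟩ := hmem.1 ha
    obtain ⟨σ, hσ, rfl⟩ := hmem.1 hb
    have h1 := key (ρ⁻¹ * σ) (R.mul_mem (R.inv_mem hρ) hσ) (fun e => hab (by
      conv_lhs => rw [← e]
      group)) l hl
    have h2 := congrArg (fun x => ρ * x * ρ⁻¹) h1
    simp only [Commute, SemiconjBy]
    convert h2 using 1 <;> group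
  have hlS : l ∈ S := hmem.2 ⟨1, R.one_mem, by group⟩
  refine ⟨S.val.noncommProd comm, ⟨G.multiset_noncommProd_mem _ _ fun a ha => ?_, fun ρ hρ => ?_⟩, ?_⟩
  · obtain ⟨ρ, hρ, rfl⟩ := hmem.1 ha
    exact (mem_normalizer_iff.1 (hR hρ) l).1 (hL hl)
  · have e : S.map (MulAut.conj ρ).toEquiv.toEmbedding = S := by
      ext s
      simp only [Finset.mem_map, hmem]
      constructor
      · rintro ⟨_, ⟨σ, hσ, rfl⟩, rfl⟩
        exact ⟨ρ * σ, R.mul_mem hρ hσ, by simp [mul_assoc]⟩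
      · rintro ⟨σ, hσ, rfl⟩
        exact ⟨_, ⟨ρ⁻¹ * σ, R.mul_mem (R.inv_mem hρ) hσ, rfl⟩, by simp [mul_assoc]⟩
    have e' : S.val.map (MulAut.conj ρ) = S.val := congrArg Finset.val e
    have h1 := Multiset.map_noncommProd S.val comm (MulAut.conj ρ)
    simp only [e'] at h1
    rw [MulAut.conj_apply, mul_inv_eq_iff_eq_mul] at h1
    exact h1
  · rw [← Multiset.mul_noncommProd_erase S.val hlS comm, inv_mul_cancel_left]
    refine multiset_noncommProd_mem _ _ _ fun a ha => ?_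
    rw [← Finset.erase_val, Finset.mem_val, Finset.mem_erase] at ha
    obtain ⟨ρ, hρ, rfl⟩ := hmem.1 ha.2
    exact key ρ hρ ha.1

theorem Hyp.proj (h : Hyp p G R P) {L : Subgroup Γ} (hL : L ≤ G)
    (hc : ∀ ρ ∈ R, ρ ∉ normalizer (L : Set Γ) → ∀ a ∈ L, ρ * a * ρ⁻¹ ∈ centralizer (L : Set Γ)) :
    ∃ P₁, Hyp p L (R ⊓ normalizer (L : Set Γ)) P₁ ∧ ∀ u ∈ L, IsPGroup p (zpowers u) → ∀ g ∈ P,
      u⁻¹ * g ∈ centralizer (L : Set Γ) → u ∈ P₁ := by
  set T := P ⊓ normalizer (L : Set Γ) with hT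
  set K := L ⊓ (centralizer (L : Set Γ) ⊔ T) with hK
  have hNC : normalizer (L : Set Γ) ≤ normalizer (centralizer (L : Set Γ) : Set Γ) := by
    have : ∀ v ∈ normalizer (L : Set Γ), ∀ c ∈ centralizer (L : Set Γ),
        v * c * v⁻¹ ∈ centralizer (L : Set Γ) := by
      intro v hv c hc a ha
      have := congrArg (fun x => v * x * v⁻¹) (hc _ ((mem_normalizer_iff''.1 hv a).1 ha))
      simpa [mul_assoc] using this
    intro v hv
    rw [mem_normalizer_iff]
    exact fun c => ⟨this v hv c, fun h' => by simpa [mul_assoc] using this _ (inv_mem hv) _ h'⟩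
  have hN : ∀ v ∈ normalizer (L : Set Γ), v ∈ normalizer (P : Set Γ) → v ∈ normalizer (K : Set Γ) := by
    intro v a b
    refine inf_normalizer_le_normalizer_inf ⟨a, ?_⟩
    refine normalizer_inf_normalizer_le_normalizer_sup _ _ ⟨hNC a, ?_⟩
    exact inf_normalizer_le_normalizer_inf ⟨b, le_normalizer a⟩
  have hnil : Group.IsNilpotent K := by
    refine of_quotient_center_nilpotent (IsPGroup.isNilpotent (p := p) fun q => ?_)
    obtain ⟨k, rfl⟩ := QuotientGroup.mk_surjective q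
    obtain ⟨c, hc, t, ht, e⟩ := (Solv.Coprime.mem_sup_iff (inf_le_right.trans hNC)).1 k.2.2
    obtain ⟨n, hn⟩ := h.pg ⟨t, ht.1⟩
    have hn' : t ^ p ^ n = 1 := congrArg Subtype.val hn
    have hcN := centralizer_le_normalizer _ hc
    have h1 : L.normalizerMonoidHom ⟨c, hcN⟩ = 1 := by
      rw [← MonoidHom.mem_ker, normalizerMonoidHom_ker]; exact hc
    have h2 : (⟨c, hcN⟩ * ⟨t, ht.2⟩ : normalizer (L : Set Γ)) ^ p ^ n ∈ L.normalizerMonoidHom.ker := by
      rw [MonoidHom.mem_ker, map_pow, map_mul, h1, one_mul, ← map_pow,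
        show (⟨t, ht.2⟩ : normalizer (L : Set Γ)) ^ p ^ n = 1 from Subtype.ext hn', map_one]
    rw [normalizerMonoidHom_ker, mem_subgroupOf] at h2
    refine ⟨n, ?_⟩
    rw [← QuotientGroup.mk_pow, QuotientGroup.eq_one_iff, mem_center_iff]
    intro a
    apply Subtype.ext
    have := h2 a a.2.1
    simpa [e] using this
  refine ⟨pCoreOf p K, ⟨inf_le_right, Solv.Coprime.hcop_mono h.cop inf_le_left hL,
    by haveI := h.solv; exact Group.isSolvable_of_isSolvable_injective (inclusion_injective inf_le_left),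
    (Local.pCoreOf_le K).trans inf_le_left, Local.isPGroup_pCoreOf K,
    fun v hv => Local.normalizer_le_normalizer_pCoreOf K (hN v hv.2 (h.nR hv.1)),
    fun l hl => Local.normalizer_le_normalizer_pCoreOf K ?_⟩, fun u hu hup g hg hug => ?_⟩
  · obtain ⟨c, hc1, hc2⟩ := exists_diag h.norm hL hc hl.1 hl.2
    have h1 : c ∈ normalizer (L : Set Γ) := by
      simpa using mul_mem (le_normalizer hl.1) (centralizer_le_normalizer _ hc2)
    have h2 : l⁻¹ * c ∈ normalizer (K : Set Γ) :=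
      centralizer_le_normalizer _ (centralizer_le (show (K : Set Γ) ⊆ L from inf_le_left (a := L)) hc2)
    simpa using mul_mem (hN c h1 (h.nC hc1)) (inv_mem h2)
  · have h1 : g ∈ normalizer (L : Set Γ) := by
      simpa using mul_mem (le_normalizer hu) (centralizer_le_normalizer _ hug)
    have huK : u ∈ K := ⟨hu, by
      simpa using mul_mem (mem_sup_right (S := centralizer (L : Set Γ)) (show g ∈ T from ⟨hg, h1⟩))
        (inv_mem (mem_sup_left (T := T) hug))⟩
    exact ⟨⟨u, huK⟩, Solv.le_pCore_of_isPGroup_of_isNilpotent (hup.comap_subtype (K := K))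
      (mem_zpowers u), rfl⟩

theorem Hyp.subgroupOf (h : Hyp p G R P) {Δ : Subgroup Γ} (hG : G ≤ Δ) (hR : R ≤ Δ) :
    Hyp p (G.subgroupOf Δ) (R.subgroupOf Δ) (P.subgroupOf Δ) :=
  ⟨(comap_mono h.norm).trans (le_normalizer_comap _),
    by rw [Solv.Coprime.card_subgroupOf hG, Solv.Coprime.card_subgroupOf hR]; exact h.cop,
    by haveI := h.solv; exact Group.isSolvable_of_isSolvable_injective (f := (subgroupOfEquivOfLe hR).toMonoidHom)
        (subgroupOfEquivOfLe hR).injective,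
    comap_mono h.le, h.pg.comap_subtype,
    (comap_mono h.nR).trans (le_normalizer_comap _),
    fun c hc => le_normalizer_comap _ (h.nC ⟨hc.1, fun r hr =>
      congrArg Subtype.val (hc.2 ⟨r, hR hr⟩ hr)⟩)⟩

end Cfsg.Lib.Flav
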