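import Mathlib
import Cfsg.Agent.Flav.Core
import Cfsg.Agent.Flav.Grp

/-!
Flavell's theorem: a quadratic element of a `p`-subgroup invariant under `R` and `C_G(R)` lies in
`O_p(G)`.
-/

set_option autoImplicit false
set_option linter.unusedSimpArgs false
set_option linter.unnecessarySeqFocus false
set_option linter.unusedSectionVars false

namespace Cfsg.Lib.Flav

open Cfsg.Lib.Class Pointwise Polynomial

universe u

section Split

variable {k : Type*} [Field k] {M : Type*} [AddCommGroup M] [Module k M] [FiniteDimensional k M]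
variable {G : Subgroup (LinearMap.GeneralLinearGroup k M)}

theorem exists_split' (hk2 : ringChar k ≠ 2) (hk3 : Nat.card k ≠ 3) {s t : Module.End k M}
    (hs : s ∈ QS G) (ht : t ∈ QD G) (h : t * s * t ≠ 0) :
    ∃ s₁ ∈ QD G, s - s₁ ∈ QS G ∧ rk (s - s₁) < rk s ∧ (∃ a, s₁ = a * s ∧ s₁ = s * a) ∧
      t * s₁ * t ≠ 0 := by
  rw [← zz_mul_right ht.1.1] at h
  have hinj := (zz_dichotomy hk2 hk3 hs ht).resolve_left h
  obtain ⟨w, hw⟩ := exists_poly_inv (commute_zz_right ht.1.1) hinj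
  have hw' : aeval (zz s t) (1 - w * X) * t = 0 := by
    rw [map_sub, sub_mul, hw, map_one, one_mul, sub_self]
  have h1 := orb_mul_TT_mem hs ht.1 orb_one_one (aeval_zz_mul_mem hk2 hk3 hs ht (-w))
  have h2 := QS.conj' h1 (aeval_zz_mul_mem hk2 hk3 hs ht (-w))
  rw [conj_t_TT hs.1 ht.1.1] at h2
  have e2 : aeval (zz s t) (-w) * TT s t (1 + -w * (X * 1)) 1 = ev s t 0 (w * X) 0 0 := by
    rw [← sub_eq_zero, TT, aeval_mul_ev, ev_sub]
    exact ev_eq_zero_of hs.1 ht.1.1 hw' ⟨w, by ring⟩ ⟨0, by ring⟩ ⟨-w * (1 - w * X), by ring⟩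
      ⟨-(2 * w), by ring⟩
  rw [e2, ev_aeval_s] at h2
  have hc := (commute_aeval_of_commute (commute_zz_left (t := t) hs.1) (w * X)).eq
  have hc' := (commute_aeval_of_commute (commute_zz_right (s := s) ht.1.1) (w * X)).eq
  have h3 := QS.sub hs h2 (by rw [hc, ← mul_assoc, hs.1, zero_mul]) (by rw [mul_assoc, hs.1, mul_zero])
  have hts : ∃ m, s (t m) ≠ 0 := by
    by_contra hh
    push Not at hh
    apply h
    rw [zz_mul_right ht.1.1]
    ext m
    simp [hh m]
  obtain ⟨m, hm⟩ := hts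
  have hkill : aeval (zz s t) (1 - w * X) (s (t m)) = 0 := by
    rw [aeval_zz_apply_s hs.1, ← Module.End.mul_apply (aeval (zz s t) (1 - w * X)), hw']
    simp
  have hopp : t * (aeval (zz s t) (w * X) * s) * t ≠ 0 := by
    rwa [← mul_assoc, ← hc', hw, ← zz_mul_right ht.1.1]
  refine ⟨_, QD.of_rk_le ht h2 (fun e => hopp (by rw [e, mul_zero, zero_mul])) ?_, h3, ?_,
    ⟨_, rfl, hc⟩, hopp⟩
  · rw [map_mul, aeval_X, mul_assoc, zz_mul_left hs.1]
    exact (rk_mul_le_right _ _).trans ((rk_mul_le_left _ _).trans (rk_mul_le_right _ _))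
  · have := rk_mul_lt hm hkill
    rwa [map_sub, map_one, sub_mul, one_mul] at this

theorem exists_part (hk2 : ringChar k ≠ 2) (hk3 : Nat.card k ≠ 3) (hG : NU G) {t : Module.End k M}
    (ht : t ∈ QD G) (n : ℕ) : ∀ s ∈ QS G, rk s < n → ∃ s₁ ∈ QS (GQ G t), s - s₁ ∈ QS G ∧
      (∃ a, s₁ = a * s) ∧ (∃ a, s₁ = s * a) ∧ ∀ w, Conn G t w → (s - s₁) * w = w * (s - s₁) := by
  induction n with
  | zero => intro s _ h; omega
  | succ n ih =>
    intro s hs hn
    by_cases h : ∀ w ∈ QD G, w * s * w = 0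
    · exact ⟨0, QS.zero_mem, by simpa using hs, ⟨0, by simp⟩, ⟨0, by simp⟩, fun w hw => by
        rw [sub_zero, ← sub_eq_zero]
        exact comm_eq_zero_of_forall_nonopp hk2 hk3 hG hs h (hw.qd ht)⟩
    push Not at h
    obtain ⟨w, hw, h⟩ := h
    obtain ⟨u, hu, h1, h2, ⟨a, ha, ha'⟩, -⟩ := exists_split' hk2 hk3 hs hw h
    obtain ⟨v, hv, g1, ⟨b, hb⟩, ⟨c, hc⟩, g2⟩ := ih _ h1 (by omega)
    have e1 : s - u = (1 - a) * s := by rw [sub_mul, one_mul, ← ha]
    have e2 : s - u = s * (1 - a) := by rw [mul_sub, mul_one, ← ha']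
    have e3 : u * v = 0 := by
      rw [ha, hc, e2, mul_assoc, ← mul_assoc s, ← mul_assoc s, hs.1, zero_mul, zero_mul, mul_zero]
    have e4 : v * u = 0 := by
      rw [ha', hb, e1, mul_assoc, mul_assoc, ← mul_assoc s, hs.1, zero_mul, mul_zero, mul_zero]
    by_cases hcu : Conn G t u
    · refine ⟨u + v, QS.add (mem_QS_of_EG_le (EG_le_GQ hcu) (self_mem_Esp hu.1)) hv e3 e4,
        by rwa [← sub_sub], ⟨a + b * (1 - a), by rw [add_mul, mul_assoc, ← e1, ← hb, ← ha]⟩,
        ⟨a + (1 - a) * c, by rw [mul_add, ← mul_assoc, ← e2, ← hc, ← ha']⟩, by rwa [← sub_sub]⟩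
    · have e5 : s - v = s - u - v + u := by abel
      refine ⟨v, hv, ?_, ⟨b * (1 - a), by rw [mul_assoc, ← e1, ← hb]⟩,
        ⟨(1 - a) * c, by rw [← mul_assoc, ← e2, ← hc]⟩, fun w hw => ?_⟩
      · rw [e5]
        refine QS.add g1 hu.1 ?_ ?_
        · rw [sub_mul, e4, e1, ha', mul_assoc, ← mul_assoc s, hs.1, zero_mul, mul_zero, sub_zero]
        · rw [mul_sub, e3, e2, ha, mul_assoc, ← mul_assoc s, hs.1, zero_mul, mul_zero, sub_zero]
      · have : u * w - w * u = 0 := by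
          by_contra hne
          exact hcu (hw.trans ((conn_of_comm_ne_zero hk2 hk3 hG hu (hw.qd ht) hne).symm hk2 hk3))
        rw [e5, add_mul, mul_add, g2 w hw, sub_eq_zero.1 this]

end Split

variable {p : ℕ} [hp : Fact p.Prime] [h3 : Fact (3 < p)]

section

variable {V : Type*} [AddCommGroup V] [Module (ZMod p) V] [Finite V]
variable {G : Subgroup (LinearMap.GeneralLinearGroup (ZMod p) V)}

local notation "𝔸" => Module.End (ZMod p) V
local notation "𝔾" => LinearMap.GeneralLinearGroup (ZMod p) V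

theorem conn_cj {g : 𝔾} (hg : g ∈ Subgroup.normalizer (G : Set 𝔾)) {a b : 𝔸} (h : Conn G a b) :
    Conn G (cj g a) (cj g b) := by
  induction h with
  | refl => exact Conn.refl _
  | tail _ h ih =>
    exact ih.trans (conn_of_opp (QD_cjN hg h.1) (QD_cjN hg h.2.1) (by
      rw [← map_mul, ← map_mul]; exact fun e => h.2.2 (cj_eq_zero.1 e)))

theorem conj_GQ {g : 𝔾} (hg : g ∈ Subgroup.normalizer (G : Set 𝔾)) {t : 𝔸} (ht : t ∈ QD G) :
    MulAut.conj g • GQ G t = GQ G (cj g t) := by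
  have key : ∀ {g : 𝔾}, g ∈ Subgroup.normalizer (G : Set 𝔾) → ∀ {t : 𝔸}, t ∈ QD G →
      MulAut.conj g • GQ G t ≤ GQ G (cj g t) := by
    intro g hg t ht
    rw [Subgroup.pointwise_smul_subset_iff, GQ_le_iff]
    intro s hs
    rw [← Subgroup.pointwise_smul_subset_iff, conj_EG hg (hs.qd ht).1.1]
    exact EG_le_GQ (conn_cj hg hs)
  refine le_antisymm (key hg ht) ?_
  have := key (Subgroup.inv_mem _ hg) (QD_cjN hg ht)
  rwa [cj_inv_cj, map_inv, ← Subgroup.subset_pointwise_smul_iff] at this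

theorem np_GQ (h : pCoreOf p G = ⊥) {t : 𝔸} (ht : t ∈ QD G) : pCoreOf p (GQ G t) = ⊥ := by
  have hnu := nu_of_np h
  have key : ∀ {H K : Subgroup 𝔾}, (∀ g ∈ H, ∀ a ∈ K, g * a * g⁻¹ ∈ K) →
      H ≤ Subgroup.normalizer (K : Set 𝔾) := by
    intro H K h g hg
    rw [Subgroup.mem_normalizer_iff]
    exact fun a => ⟨h g hg a, fun h' => by simpa [mul_assoc] using h _ (H.inv_mem hg) _ h'⟩
  rw [eq_bot_iff, ← h]
  refine (Local.pCoreOf_le_of_normal (GQ_le_biSup ht)
    (key fun g hg a ha => conj_mem_GQ k2 k3 hnu ht hg ha)).trans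
    (Local.pCoreOf_le_of_normal biSup_quadraticRootSubgroups_le (key fun g hg => ?_))
  refine fun a ha => (iSup₂_le fun A hA a ha => ?_ : _ ≤ (⨆ B ∈ quadraticRootSubgroups G, B).comap
    (MulAut.conj g).toMonoidHom) ha
  exact le_iSup₂_of_le (f := fun B (_ : B ∈ quadraticRootSubgroups G) => B) _
    (conjBy_mem_quadraticRootSubgroups hA hg) le_rfl ⟨a, ha, rfl⟩

theorem one_of_le {t : 𝔸} (h : pCoreOf p G = ⊥) (ht : t ∈ QD G) (hG : G ≤ GQ G t) : One G := by
  have hnu := nu_of_np h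
  have hc : ∀ s ∈ QD G, Conn G t s := by
    intro s hs
    by_contra hn
    obtain ⟨r, hr, hr'⟩ := exists_opp k2 k3 hnu hs
    have := comm_eq_zero_of_commutator_EG hr.1 hs.1 (eq_bot_iff.2 ((Subgroup.commutator_mono
      ((EG_le r).trans hG) (EG_le_GQ (Conn.refl s))).trans
        (commutator_GQ_eq_bot k2 k3 hnu ht hs hn).le))
    exact hr' (by rw [sub_eq_zero.1 this, mul_assoc, hr.1.1, mul_zero])
  refine ⟨h, fun H hH => hG.trans (GQ_le_iff.2 fun s hs g hg => ?_), fun s hs s' hs' => ?_⟩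
  · obtain ⟨x, hx, rfl⟩ := exists_eq_unitOf_of_mem_EG hg
    by_cases h0 : x = 0
    · rw [(unitOf_eq_one_iff _).2 h0]; exact H.one_mem
    · exact hH x (Esp.qd (hs.qd ht) hx h0)
  · obtain ⟨g, hg, e⟩ := exists_conjBy_of_conn k2 k3 (hc s hs)
      (((hc s hs).symm k2 k3).trans (hc s' hs'))
    have hg' := GQ_le t hg
    rw [conjBy_EG s hg', EG_eq_iff] at e
    exact ⟨g, hg', e ▸ self_mem_Esp (QD_cj hg' hs).1⟩

theorem np_step (hG : pCoreOf p G = ⊥) {R P : Subgroup 𝔾} (h : Hyp p G R P)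
    (IH : ∀ H < G, ∀ R' P', Hyp p H R' P' → ∀ g ∈ P', ((g : 𝔸) - 1) * ((g : 𝔸) - 1) = 0 →
      g ∈ pCoreOf p H) {g : 𝔾} (hg : g ∈ P) (hq : ((g : 𝔸) - 1) * ((g : 𝔸) - 1) = 0) : g = 1 := by
  by_contra hg1
  have hnu := nu_of_np hG
  have hξ : (g : 𝔸) - 1 ∈ QS G := mem_QS_of_in hq ⟨g, h.le hg, by abel⟩
  by_cases hc : g ∈ fixr (QD G)
  · obtain ⟨t, ht⟩ : (QD G).Nonempty := by
      obtain ⟨t, ht, h⟩ := (measure rk).wf.has_min {s | s ∈ QS G ∧ s ≠ 0}
        ⟨_, hξ, fun e => hg1 (Units.ext (sub_eq_zero.1 e))⟩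
      exact ⟨t, ht.1, ht.2, fun s hs hs0 => not_lt.1 (h s ⟨hs, hs0⟩)⟩
    have hN : Subgroup.normalizer (G : Set 𝔾) ≤
        Subgroup.normalizer ((G ⊓ fixr (QD G) : Subgroup 𝔾) : Set 𝔾) := fun v a =>
      Subgroup.inf_normalizer_le_normalizer_inf ⟨a, mem_normalizer_fixr (fun _ => QD_cjN a)
        fun _ => QD_cjN (Subgroup.inv_mem _ a)⟩
    have hlt : G ⊓ fixr (QD G) < G := by
      refine lt_of_le_of_ne inf_le_left fun e => ?_
      obtain ⟨r, hr, hr'⟩ := exists_opp k2 k3 hnu ht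
      have := (cj_unitOf_eq_iff hr.1.1).1 ((e.ge (QS.unitOf_mem hr.1)).2 t ht)
      exact hr' (by rw [this, mul_assoc, hr.1.1, mul_zero])
    have := Local.pCoreOf_le_of_normal inf_le_left (Subgroup.le_normalizer.trans hN)
      (IH _ hlt _ _ (h.inf inf_le_left (h.norm.trans hN)) g ⟨hg, h.le hg, hc⟩ hq)
    rw [hG] at this
    exact hg1 this
  rw [mem_fixr] at hc
  push Not at hc
  obtain ⟨t, ht, hc⟩ := hc
  by_cases hL : G ≤ GQ G t
  · exact hg1 ((one_of_le hG ht hL).core h (fun H hH => IH H hH R) hg hq)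
  obtain ⟨P₁, h₁, h₂⟩ := h.proj (GQ_le t) (fun ρ hρ hn a ha b hb => by
    rw [Solv.Coprime.mem_normalizer_iff_conj_smul, conj_GQ (h.norm hρ) ht] at hn
    refine Trans.commute_of_commutator_eq_bot (commutator_GQ_eq_bot k2 k3 hnu ht
      (QD_cjN (h.norm hρ) ht) fun hc => hn (GQ_eq_of_conn k2 k3 hc).symm) hb ?_
    rw [← conj_GQ (h.norm hρ) ht]
    exact Solv.Coprime.conj_mem_conj_smul ρ ha)
  obtain ⟨s, hs, g1, ⟨a, ha⟩, ⟨b, hb⟩, g2⟩ := exists_part k2 k3 hnu ht _ _ hξ (Nat.lt_succ_self _)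
  have e1 : (unitOf s hs.1)⁻¹ * g = unitOf _ g1.1 := by
    apply Units.ext
    have : s * ((g : 𝔸) - 1) = 0 := by rw [ha, mul_assoc, hq, mul_zero]
    rw [Units.val_mul, val_inv_unitOf, val_unitOf]
    have h0 : s * 1 = s := mul_one s
    linear_combination (norm := noncomm_ring) -this
  have e2 : unitOf _ g1.1 ∈ Subgroup.centralizer (GQ G t : Set 𝔾) := by
    have : GQ G t ≤ Subgroup.centralizer {unitOf _ g1.1} := GQ_le_iff.2 fun w hw v hv => by
      obtain ⟨x, hx, rfl⟩ := exists_eq_unitOf_of_mem_EG hv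
      rw [Subgroup.mem_centralizer_singleton_iff]
      apply Units.ext
      have : ((g : 𝔸) - 1 - s) * x = x * ((g : 𝔸) - 1 - s) := by
        by_cases h0 : x = 0
        · simp [h0]
        · exact g2 x (hw.trans (conn_of_mem_Esp k2 k3 hnu (hw.qd ht) hx h0))
      simp only [Units.val_mul, val_unitOf]
      linear_combination (norm := noncomm_ring) -this
    exact fun a ha => Subgroup.mem_centralizer_singleton_iff.1 (this ha)
  have hu := IH _ (lt_of_le_of_ne (GQ_le t) fun e => hL e.ge) _ _ h₁ _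
    (h₂ _ (QS.unitOf_mem hs) ((MG_isPGroup (G := GQ G t) s).to_le (Subgroup.zpowers_le.2
      (EG_le_MG hs.1 (unitOf_mem_EG (self_mem_Esp hs))))) g hg (e1 ▸ e2)) (by simp [hs.1])
  rw [np_GQ hG ht, Subgroup.mem_bot, unitOf_eq_one_iff] at hu
  have := g2 t (Conn.refl t)
  rw [hu] at this
  exact hc (cj_eq_self_iff.2 (by linear_combination (norm := noncomm_ring) this))

end

theorem thmB_aux (n : ℕ) : ∀ (V : Type u) [AddCommGroup V] [Module (ZMod p) V] [Finite V]
    (G R P : Subgroup (LinearMap.GeneralLinearGroup (ZMod p) V)),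
    Nat.card G + Module.finrank (ZMod p) V < n → Hyp p G R P → ∀ g ∈ P,
    ((g : Module.End (ZMod p) V) - 1) * ((g : Module.End (ZMod p) V) - 1) = 0 → g ∈ pCoreOf p G := by
  induction n with
  | zero => intro V _ _ _ G R P h; omega
  | succ n ih =>
    intro V _ _ _ G R P hn h g hg hq
    by_cases h0 : pCoreOf p G = ⊥
    · rw [np_step h0 h (fun H hH R' P' h' => ih V H R' P' (by
        have : Nat.card H < Nat.card G :=
          lt_of_le_of_ne (Subgroup.card_le_of_le hH.le) fun e =>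
            hH.ne (Subgroup.eq_of_le_of_card_ge hH.le e.ge)
        omega) h') hg hq]
      exact one_mem _
    set O := pCoreOf p G with hO
    set Δ := Subgroup.normalizer (O : Set (LinearMap.GeneralLinearGroup (ZMod p) V)) with hΔ
    have hGΔ : G ≤ Δ := Local.le_normalizer_pCoreOf G
    have hRΔ : R ≤ Δ := h.norm.trans (Local.normalizer_le_normalizer_pCoreOf G)
    let ρ : Representation (ZMod p) Δ V := (Units.coeHom _).comp Δ.subtype
    set W := fixedSubmodule O with hW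
    have hWρ : ∀ a : Δ, W ≤ W.comap (ρ a) := by
      intro a m hm
      rw [Submodule.mem_comap, mem_fixedSubmodule_iff']
      intro o ho
      have := mem_fixedSubmodule_iff'.1 hm _ ((Subgroup.mem_normalizer_iff''.1 a.2 o).1 ho)
      conv_rhs => rw [← this]
      change _ = (((a : LinearMap.GeneralLinearGroup (ZMod p) V) : Module.End (ZMod p) V) * _) m
      rw [← Units.val_mul, ← mul_assoc, ← mul_assoc, mul_inv_cancel, one_mul]
      rfl
    have hW1 : W ≠ ⊤ := fun e => h0 (eq_bot_iff.2 fun o ho => Units.ext (LinearMap.ext fun m =>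
      mem_fixedSubmodule_iff'.1 (e.ge Submodule.mem_top) o ho))
    have hW0 : W ≠ ⊥ := by
      obtain ⟨v, -, hv0, hv⟩ := Perm.exists_fixed_vector_of_isPGroup (Local.isPGroup_pCoreOf (p := p) G)
        ((Units.coeHom _).comp O.subtype : Representation (ZMod p) O V) ⊤ (fun _ _ _ => trivial)
        (fun e => hW1 (eq_top_iff.2 (e.le.trans bot_le)))
      exact fun e => hv0 (e.le (mem_fixedSubmodule_iff'.2 fun o ho => hv ⟨o, ho⟩))
    have h' := h.subgroupOf hGΔ hRΔ
    set f₁ := (ρ.subrepresentation W hWρ).asGroupHom with hf₁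
    set f₂ := (ρ.quotient W hWρ).asGroupHom with hf₂
    have hcard : ∀ {Γ' : Type u} [Group Γ'] (f : Δ →* Γ'),
        Nat.card ((G.subgroupOf Δ).map f) ≤ Nat.card G := fun f => by
      rw [← Solv.Coprime.card_subgroupOf hGΔ]
      exact Nat.le_of_dvd Nat.card_pos (Subgroup.card_map_dvd _ f)
    have hgΔ : g ∈ Δ := hGΔ (h.le hg)
    have a₁ := ih W _ _ _ (by
      have := Submodule.finrank_lt hW1
      exact lt_of_le_of_lt (add_le_add_left (hcard f₁) _) (by omega)) (h'.map f₁) (f₁ ⟨g, hgΔ⟩) ⟨_, hg, rfl⟩ (by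
        ext m
        exact LinearMap.congr_fun hq m)
    haveI : Finite (V ⧸ W) := Finite.of_surjective _ W.mkQ_surjective
    have a₂ := ih (V ⧸ W) _ _ _ (by
      have := Submodule.finrank_quotient_add_finrank W
      have : Module.finrank (ZMod p) W ≠ 0 := fun e => hW0 (Submodule.finrank_eq_zero.1 e)
      exact lt_of_le_of_lt (add_le_add_left (hcard f₂) _) (by omega)) (h'.map f₂) (f₂ ⟨g, hgΔ⟩) ⟨_, hg, rfl⟩ (by
        refine LinearMap.ext fun m => ?_
        obtain ⟨m, rfl⟩ := Submodule.Quotient.mk_surjective W m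
        exact congrArg W.mkQ (LinearMap.congr_fun hq m))
    have hN : ∀ {Γ' : Type u} [Group Γ'] (f : Δ →* Γ'), G.subgroupOf Δ ≤ Subgroup.normalizer
        (((pCoreOf p ((G.subgroupOf Δ).map f)).comap f : Subgroup Δ) : Set Δ) := fun f a ha =>
      Subgroup.le_normalizer_comap f (Local.le_normalizer_pCoreOf _ ⟨a, ha, rfl⟩)
    have key := Local.le_pCoreOf (p := p) (N := G.subgroupOf Δ ⊓
        ((pCoreOf p ((G.subgroupOf Δ).map f₁)).comap f₁ ⊓
          (pCoreOf p ((G.subgroupOf Δ).map f₂)).comap f₂)) inf_le_left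
      (fun a ha => Subgroup.inf_normalizer_le_normalizer_inf ⟨Subgroup.le_normalizer ha,
        Subgroup.inf_normalizer_le_normalizer_inf ⟨hN f₁ ha, hN f₂ ha⟩⟩) (fun a => by
        obtain ⟨i, hi⟩ := Local.isPGroup_pCoreOf _ ⟨_, a.2.2.1⟩
        obtain ⟨j, hj⟩ := Local.isPGroup_pCoreOf _ ⟨_, a.2.2.2⟩
        have hi' : f₁ ((a : Δ) ^ p ^ (i + j)) = 1 := by
          rw [pow_add, pow_mul, map_pow, map_pow, show f₁ a ^ p ^ i = 1 from congrArg Subtype.val hi,
            one_pow]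
        have hj' : f₂ ((a : Δ) ^ p ^ (i + j)) = 1 := by
          rw [pow_add, mul_comm, pow_mul, map_pow, map_pow,
            show f₂ a ^ p ^ j = 1 from congrArg Subtype.val hj, one_pow]
        refine ⟨i + j + 2, Subtype.ext (Subtype.ext ?_)⟩
        rw [pow_add, pow_mul]
        generalize hb : (a : Δ) ^ p ^ (i + j) = b at hi' hj'
        have : ((b : LinearMap.GeneralLinearGroup (ZMod p) V)) ^ p ^ 2 = 1 := by
          refine pow_eq_one_of_nil ?_
          rw [pow_two]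
          ext m
          have c2 := LinearMap.congr_fun (congrArg Units.val hj') (W.mkQ m)
          have c3 : ρ b m - m ∈ W := (Submodule.Quotient.eq W).1 c2
          have c1 := congrArg Subtype.val (LinearMap.congr_fun (congrArg Units.val hi') ⟨_, c3⟩)
          exact sub_eq_zero.2 c1
        rw [← hb] at this
        exact this) (show (⟨g, hgΔ⟩ : Δ) ∈ _ from ⟨h.le hg, a₁, a₂⟩)
    have := Local.map_pCoreOf_of_injective (p := p) Δ.subtype Δ.subtype_injective (G.subgroupOf Δ)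
    rw [Subgroup.subgroupOf_map_subtype, inf_eq_left.2 hGΔ] at this
    exact this.le ⟨_, key, rfl⟩

/-- Flavell's theorem on quadratic elements -/
theorem thmB {Γ : Type*} [Group Γ] [Finite Γ] {G R P : Subgroup Γ} (h : Hyp p G R P)
    {V : Type u} [AddCommGroup V] [Module (ZMod p) V] [Finite V] (ρ : Γ →* Module.End (ZMod p) V)
    {g : Γ} (hg : g ∈ P) (hq : (ρ g - 1) * (ρ g - 1) = 0) :
    ρ.toHomUnits g ∈ pCoreOf p (G.map ρ.toHomUnits) :=
  thmB_aux _ V _ _ _ (Nat.lt_succ_self _) (h.map ρ.toHomUnits) _ ⟨g, hg, rfl⟩ hq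

end Cfsg.Lib.Flav
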