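import Mathlib
import Cfsg.Agent.Flav.ThmB
import Cfsg.Agent.Trans.KInfLocal
import Cfsg.Agent.Solv.FrattiniRep
import Cfsg.Agent.Solv.CoprimeSylow
import Cfsg.Agent.Local.CharPLocal

/-!
Flavell's theorem: `K^∞(P)` is normal in `G` when `G` has characteristic `p > 3` and `P` is a
`p`-subgroup containing `O_p(G)` normalised by `R` and `C_G(R)`.
-/

set_option autoImplicit false

namespace Cfsg.Lib.Flav

open Cfsg Cfsg.Lib.Trans Subgroup
open scoped commutatorElement

variable {Γ : Type*} [Group Γ] [Finite Γ] {p : ℕ} [Fact p.Prime] {G R P : Subgroup Γ}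

theorem chiefCent_inf_le [G.Normal] (hc : Local.CharP p G) {A : Subgroup Γ} [A.Normal]
    (hAT : A ≤ pCoreOf p G) (h : pCoreOf p G ⊓ centralizer (A : Set Γ) ≤ A) :
    chiefCent A ⊓ G ≤ pCoreOf p G := by
  have hT := Local.isPGroup_pCoreOf (p := p) G
  have : (pCoreOf p G).Normal := Solv.PG.normal_of_top_le_normalizer
    (le_normalizer_of_normal.trans (Local.normalizer_le_normalizer_pCoreOf G))
  refine Local.le_pCoreOf inf_le_right le_normalizer_of_normal
    (Solv.PG.isPGroup_of_forall_mem fun y hy => ?_)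
  obtain ⟨m, hm⟩ := exists_pow_coprime_orderOf (p := p) y
  have h1 := hc ⟨G.pow_mem hy.2 _, mem_centralizer_of_selfCentralizing hT h hAT hm
    (mem_centralizer_of_mem_chiefCent (hT.to_le hAT) hm (Subgroup.pow_mem _ hy.1 _))⟩
  obtain ⟨k, hk⟩ := Solv.PG.exists_pow_prime_pow_eq_one hT h1
  exact ⟨m + k, by rw [pow_add, pow_mul, hk]⟩

variable [Fact (3 < p)]

/-- An element of `P` acting quadratically on a `p`-chief factor centralises it. -/
theorem Hyp.commutator_le_of_chief [G.Normal] (h : Hyp p G R P) {U V : Subgroup Γ}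
    (hUV : IsChiefFactor U V) (hU : IsPGroup p U) {g : Γ} (hg : g ∈ P)
    (h1 : ⁅⁅U, zpowers g⁆, zpowers g⁆ ≤ V) : ⁅U, zpowers g⁆ ≤ V := by
  have := hUV.2.1
  have := hUV.2.2.1
  obtain ⟨e1, e2⟩ := chiefFactor_elementary hUV hU
  obtain ⟨S⟩ := Solv.nonempty_secRep p U V e1 e2
  have hq : (S.ρ g - 1) * (S.ρ g - 1) = 0 := by
    ext w
    obtain ⟨a, ha, rfl⟩ := S.π_surj w
    rw [Module.End.mul_apply, S.sub_one_π g ha, S.sub_one_π g (Solv.SecRep.commutator_mem g ha),
      LinearMap.zero_apply, S.π_eq_zero (Solv.SecRep.commutator_mem g (Solv.SecRep.commutator_mem g ha))]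
    rw [commutator_comm, commutator_comm U] at h1
    exact h1 (commutator_mem_commutator (mem_zpowers g)
      (commutator_mem_commutator (mem_zpowers g) ha))
  have h2 := thmB h S.ρ hg hq
  let K : Subgroup Γ := (pCoreOf p (G.map S.ρ.toHomUnits)).comap S.ρ.toHomUnits
  have hK : K.Normal := by
    refine ⟨fun k hk x => ?_⟩
    have h3 : S.ρ.toHomUnits x ∈ normalizer ((G.map S.ρ.toHomUnits : Subgroup _) : Set _) :=
      le_normalizer_map _ ⟨x, le_normalizer_of_normal (H := G) (mem_top x), rfl⟩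
    have h4 := (mem_normalizer_iff.1 (Local.normalizer_le_normalizer_pCoreOf (p := p) _ h3) _).1 hk
    simpa [K] using h4
  refine (commutator_mono le_rfl (zpowers_le.2 (show g ∈ K from h2))).trans
    (IsChiefFactor.commutator_le_of_pow hUV hU fun k hk => ?_)
  obtain ⟨m, hm⟩ := Solv.PG.exists_pow_prime_pow_eq_one (Local.isPGroup_pCoreOf _) hk
  refine ⟨m, mem_commLe_of_normal.mpr (S.mem_ker_iff.1 ?_)⟩
  rw [← map_pow] at hm
  exact congrArg Units.val hm

theorem Hyp.kInf_eq_of_normal [G.Normal] (h : Hyp p G R P) (hT : pCoreOf p G ≤ P)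
    (hc : Local.CharP p G) :
    kLowerIn (pCoreOf p G) = kLowerIn P ∧ kUpperIn (pCoreOf p G) = kUpperIn P := by
  have hp := Local.isPGroup_pCoreOf (p := p) G
  have : (pCoreOf p G).Normal := Solv.PG.normal_of_top_le_normalizer
    (le_normalizer_of_normal.trans (Local.normalizer_le_normalizer_pCoreOf G))
  obtain ⟨A, hAn, hAT, hA3, hA4⟩ := exists_normal_critical (pCoreOf p G) hp
  have hA := hp.to_le hAT
  refine kInf_eq_of_le hT ?_
  by_contra hK
  obtain ⟨B, hBS, hBT, -, h2, h3⟩ := exists_kGood hA (hAT.trans hT)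
    (((commutator_mono hAT le_rfl).trans hA3).trans inf_le_right) hA3 hK
  rcases h3 with h3 | h3
  · refine hBT fun g hg => chiefCent_inf_le hc hAT hA4 ⟨mem_chiefCent_iff.2 fun U V hUV hU => ?_,
      h.le (hBS hg)⟩
    exact h.commutator_le_of_chief hUV (hA.to_le hU) (hBS hg)
      ((iterCommutator_mono_right U (zpowers_le.mpr hg) 2).trans (h3 U V hUV hU))
  · refine h3 fun g hg => mem_chiefCent_iff.2 fun U V hUV hU => ?_
    refine h.commutator_le_of_chief hUV (hA.to_le (hU.trans inf_le_left)) (hBS hg)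
      (le_trans (le_of_eq ?_) bot_le)
    exact comm_eq_bot_of_le h2 (commutator_mono hU (zpowers_le.mpr hg)) (zpowers_le.mpr hg)

/-- Flavell's theorem: `K_∞(P) = K_∞(O_p(G))` and `K^∞(P) = K^∞(O_p(G))`. -/
theorem Hyp.kInf_eq (h : Hyp p G R P) (hT : pCoreOf p G ≤ P) (hc : Local.CharP p G) :
    kLowerIn (pCoreOf p G) = kLowerIn P ∧ kUpperIn (pCoreOf p G) = kUpperIn P := by
  have hG : G ≤ normalizer (G : Set Γ) := le_normalizer
  have := normal_in_normalizer (H := G)
  obtain ⟨h1, h2⟩ := (h.subgroupOf hG h.norm).kInf_eq_of_normal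
    (by rw [Local.pCoreOf_subgroupOf_of_le hG]; exact comap_mono hT)
    ((Local.charP_subgroupOf_iff hG).2 hc)
  have hf := subtype_injective (normalizer (G : Set Γ))
  have e : ∀ Q ≤ G, (Q.subgroupOf (normalizer (G : Set Γ))).map (normalizer (G : Set Γ)).subtype
      = Q := fun Q hQ => map_subgroupOf_eq_of_le (hQ.trans hG)
  rw [Local.pCoreOf_subgroupOf_of_le hG] at h1 h2
  have h3 := congrArg (Subgroup.map (normalizer (G : Set Γ)).subtype) h1
  have h4 := congrArg (Subgroup.map (normalizer (G : Set Γ)).subtype) h2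
  rw [map_kLowerIn hf, map_kLowerIn hf, e _ h.le, e _ (Local.pCoreOf_le G)] at h3
  rw [map_kUpperIn hf, map_kUpperIn hf, e _ h.le, e _ (Local.pCoreOf_le G)] at h4
  exact ⟨h3, h4⟩

theorem Hyp.le_normalizer_kLowerIn (h : Hyp p G R P) (hT : pCoreOf p G ≤ P)
    (hc : Local.CharP p G) : normalizer (G : Set Γ) ≤ normalizer (kLowerIn P : Set Γ) := by
  rw [← (h.kInf_eq hT hc).1]
  exact (Local.normalizer_le_normalizer_pCoreOf G).trans (normalizer_le_normalizer_kLowerIn _)

end Cfsg.Lib.Flav
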